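import Cfsg.Agent.Signalizer.Basic
import Cfsg.Agent.Solvable.Factor
import Cfsg.Agent.Comp.Basic

/-!
The order formula for a four-group type acting group (Brauer–Wielandt), and factorizations
detected by centralizers.
-/

set_option autoImplicit false
set_option linter.unusedSectionVars false
set_option linter.deprecated false
set_option linter.style.haveILetI false

namespace CfsgLib.Signalizer

open Subgroup Pointwise

variable {G : Type*} [Group G] [Finite G] {p : ℕ} [Fact p.Prime] {E : Subgroup G}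

/-- The subgroups of order `p` of `E`. -/
noncomputable def lines (p : ℕ) (E : Subgroup G) : Finset (Subgroup G) :=
  (Set.toFinite {B : Subgroup G | B ≤ E ∧ Nat.card B = p}).toFinset

theorem mem_lines {B : Subgroup G} : B ∈ lines p E ↔ B ≤ E ∧ Nat.card B = p := by
  simp [lines]

variable (hE : Cfsg.IsElementaryAbelian p E) (hE2 : Nat.card E = p ^ 2)
include hE hE2

theorem wielandt_pgroup {r : ℕ} [Fact r.Prime] (hrp : r ≠ p) {P : Subgroup G} (hP : IsPGroup r P)
    (hEP : E ≤ normalizer (P : Set G)) :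
    ∏ B ∈ lines p E, Nat.card ↥(P ⊓ centralizer (B : Set G)) =
      Nat.card P * Nat.card ↥(P ⊓ centralizer (E : Set G)) ^ ((lines p E).card - 1) := by
  obtain ⟨m, hm⟩ : ∃ m, Nat.card P = m := ⟨_, rfl⟩
  induction m using Nat.strongRecOn generalizing P with | ind m ih => ?_
  subst hm
  by_cases hP1 : P = ⊥
  · subst hP1
    simp
  have hpP : ¬ p ∣ Nat.card P := by
    obtain ⟨k, hk⟩ := IsPGroup.iff_card.1 hP
    rw [hk]
    exact fun h => hrp ((Nat.prime_dvd_prime_iff_eq Fact.out Fact.out).1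
      ((Fact.out : p.Prime).dvd_of_dvd_pow h)).symm
  have hbot : (⊥ : Subgroup G) < P ∧ E ≤ normalizer ((⊥ : Subgroup G) : Set G) ∧
      P ≤ normalizer ((⊥ : Subgroup G) : Set G) :=
    ⟨bot_lt_iff_ne_bot.2 hP1, le_normalizer_of_conj_mem fun b _ u hu => by simp [mem_bot.1 hu],
      le_normalizer_of_conj_mem fun b _ u hu => by simp [mem_bot.1 hu]⟩
  obtain ⟨N, -, ⟨hNP, hEN, hPN⟩, hmax⟩ := exists_maximal_ge_of_wellFoundedGT
    (fun N : Subgroup G => N < P ∧ E ≤ normalizer (N : Set G) ∧ P ≤ normalizer (N : Set G)) ⊥ hbot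
  -- the quotient is abelian
  have hcomm : ⁅P, P⁆ ≤ N := by
    by_contra hcon
    have hPc : P ≤ normalizer ((⁅P, P⁆ : Subgroup G) : Set G) := normalizer_commutator_ge_left _ _
    have hEc : E ≤ normalizer ((⁅P, P⁆ : Subgroup G) : Set G) := le_normalizer_of_conj_mem fun b hb u hu => by
      have h : (⁅P, P⁆ : Subgroup G).map (MulAut.conj b).toMonoidHom ≤ ⁅P, P⁆ := by
        rw [map_commutator, show P.map (MulAut.conj b).toMonoidHom = P from mem_normalizer_iff_map_conj_eq.1 (hEP hb)]
      exact h ⟨u, hu, rfl⟩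
    have htop : N ⊔ ⁅P, P⁆ = P := by
      by_contra hne
      exact hcon (le_sup_right.trans (hmax ⟨lt_of_le_of_ne (sup_le hNP.le (commutator_le_self P)) hne,
        (le_inf hEN hEc).trans (normalizer_inf_normalizer_le_normalizer_sup _ _),
        (le_inf hPN hPc).trans (normalizer_inf_normalizer_le_normalizer_sup _ _)⟩ le_sup_left))
    haveI hn : (N.subgroupOf P).Normal := (normal_subgroupOf_iff_le_normalizer hNP.le).2 hPN
    have hperf : commutator (P ⧸ N.subgroupOf P) = ⊤ := by
      have h1 : N.subgroupOf P ⊔ commutator P = ⊤ := by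
        apply map_injective P.subtype_injective
        rw [Subgroup.map_sup, map_subtype_commutator, map_subgroupOf_eq_of_le hNP.le, htop,
          ← MonoidHom.range_eq_map, range_subtype]
      have h2 := congrArg (Subgroup.map (QuotientGroup.mk' (N.subgroupOf P))) h1
      rw [Subgroup.map_sup, map_top_of_surjective _ (QuotientGroup.mk'_surjective _),
        show (N.subgroupOf P).map (QuotientGroup.mk' (N.subgroupOf P)) = ⊥ by
          rw [Subgroup.map_eq_bot_iff, QuotientGroup.ker_mk'], bot_sup_eq, _root_.commutator_def,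
        map_commutator, map_top_of_surjective _ (QuotientGroup.mk'_surjective _)] at h2
      rw [_root_.commutator_def]; exact h2
    haveI := (hP.to_quotient (N.subgroupOf P)).isNilpotent
    haveI : Nontrivial (P ⧸ N.subgroupOf P) := QuotientGroup.nontrivial_iff.2 fun h =>
      hNP.ne (le_antisymm hNP.le (subgroupOf_eq_top.1 h))
    exact (Group.IsSolvable.commutator_lt_top_of_nontrivial (G := P ⧸ N.subgroupOf P)).ne hperf
  -- dichotomy for each subgroup of `E`
  have hZ : ∀ Z : Subgroup G, Z ≤ E → P ⊓ centralizer (Z : Set G) ≤ N ∨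
      (P ⊓ centralizer (Z : Set G)) ⊔ N = P := by
    intro Z hZ
    by_cases h : (P ⊓ centralizer (Z : Set G)) ⊔ N = P
    · exact Or.inr h
    refine Or.inl (le_sup_left.trans (hmax ⟨lt_of_le_of_ne (sup_le inf_le_left hNP.le) h, ?_, ?_⟩ le_sup_right))
    · exact (le_inf (le_normalizer_inf_centralizer hE hEP hZ) hEN).trans
        (normalizer_inf_normalizer_le_normalizer_sup _ _)
    · refine le_normalizer_iff_commutator_le_left.2 ?_
      exact (commutator_mono (sup_le inf_le_left hNP.le) le_rfl).trans (hcomm.trans le_sup_right)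
  have hEq : ∀ Z : Subgroup G, P ⊓ centralizer (Z : Set G) ≤ N →
      Nat.card ↥(P ⊓ centralizer (Z : Set G)) = Nat.card ↥(N ⊓ centralizer (Z : Set G)) := by
    intro Z h
    rw [le_antisymm (le_inf h inf_le_right) (inf_le_inf_right _ hNP.le)]
  have hCov : ∀ Z : Subgroup G, (P ⊓ centralizer (Z : Set G)) ⊔ N = P →
      Nat.card ↥(P ⊓ centralizer (Z : Set G)) * Nat.card N =
        Nat.card ↥(N ⊓ centralizer (Z : Set G)) * Nat.card P := by
    intro Z h
    have h1 := Solvable.card_sup_mul_card_inf ((inf_le_left : P ⊓ centralizer (Z : Set G) ≤ P).trans hPN)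
    rw [h, show P ⊓ centralizer (Z : Set G) ⊓ N = N ⊓ centralizer (Z : Set G) by
      rw [inf_right_comm, inf_eq_right.2 hNP.le]] at h1
    rw [← h1, mul_comm]
  have hihN := ih _ (Solvable.card_lt_of_lt hNP) (hP.to_le hNP.le) hEN rfl
  have hNpos : 0 < Nat.card N := Nat.card_pos
  -- some line covers
  obtain ⟨B₀, hB₀, hB₀c⟩ : ∃ B ∈ lines p E, (P ⊓ centralizer (B : Set G)) ⊔ N = P := by
    by_contra hcon
    push Not at hcon
    refine hNP.not_ge (le_of_forall_centralizer hE le_rfl hE2.ge hEP hpP fun e he he1 => ?_)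
    have hmem : zpowers e ∈ lines p E := mem_lines.2 ⟨zpowers_le.2 he, card_zpowers_eq hE he he1⟩
    refine le_trans (inf_le_inf_left P fun x hx => mem_centralizer_iff.2 fun z hz => ?_)
      ((hZ _ (zpowers_le.2 he)).resolve_right (hcon _ hmem))
    obtain ⟨i, rfl⟩ := mem_zpowers_iff.1 hz
    exact (Commute.zpow_left (mem_centralizer_singleton_iff.1 hx).symm i).eq
  have hcardpos : 1 ≤ (lines p E).card := Finset.card_pos.2 ⟨B₀, hB₀⟩
  rcases hZ E le_rfl with hEn | hEc
  · have hothers : ∀ B ∈ lines p E, B ≠ B₀ → P ⊓ centralizer (B : Set G) ≤ N := by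
      intro B hB hne
      refine (hZ B (mem_lines.1 hB).1).resolve_right fun hBc => hNP.ne (le_antisymm hNP.le ?_)
      intro x hx
      have hsup : B ⊔ B₀ = E := by
        obtain ⟨b, hb, hbB⟩ : ∃ b ∈ B, b ∉ B₀ := by
          by_contra h
          push Not at h
          exact hne (Solvable.eq_of_le_of_card_le h (by rw [(mem_lines.1 hB).2, (mem_lines.1 hB₀).2]))
        refine Solvable.eq_of_le_of_card_le (sup_le (mem_lines.1 hB).1 (mem_lines.1 hB₀).1) ?_
        rw [hE2, sq]
        refine le_of_eq_of_le ?_ (Subgroup.card_le_of_le (sup_le_sup_right (zpowers_le.2 hb) B₀))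
        rw [card_sup_zpowers hE (mem_lines.1 hB₀).1 ((mem_lines.1 hB).1 hb) hbB, (mem_lines.1 hB₀).2]
      have hzero : ∀ z ∈ E, x⁻¹ * (z * x * z⁻¹) ∈ N := by
        have hmod : ∀ (B : Subgroup G), B ≤ E → (P ⊓ centralizer (B : Set G)) ⊔ N = P → ∀ z ∈ B, x⁻¹ * (z * x * z⁻¹) ∈ N := by
          intro B hBE hBc z hz
          obtain ⟨c, hc, n, hn, rfl⟩ := (Solvable.mem_sup_of_le_normalizer
            ((inf_le_left : P ⊓ centralizer (B : Set G) ≤ P).trans hPN)).1 (hBc.symm ▸ hx)
          have h1 : z * c = c * z := mem_centralizer_iff.1 hc.2 z hz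
          rw [show (c * n)⁻¹ * (z * (c * n) * z⁻¹) = n⁻¹ * (c⁻¹ * (z * c) * n * z⁻¹) by group, h1,
            show n⁻¹ * (c⁻¹ * (c * z) * n * z⁻¹) = n⁻¹ * (z * n * z⁻¹) by group]
          exact mul_mem (inv_mem hn) ((mem_normalizer_iff.1 (hEN (hBE hz)) n).1 hn)
        intro z hz
        rw [← hsup] at hz
        obtain ⟨u, hu, v, hv, rfl⟩ := (Solvable.mem_sup_of_le_normalizer (A := B) (K := B₀) (fun u hu => by
          refine centralizer_le_normalizer _ ((le_centralizer_of_le hE (mem_lines.1 hB₀).1) ((mem_lines.1 hB).1 hu)))).1 hz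
        have h1 := hmod B (mem_lines.1 hB).1 hBc u hu
        have h2 := hmod B₀ (mem_lines.1 hB₀).1 hB₀c v hv
        rw [show x⁻¹ * (u * v * x * (u * v)⁻¹) = (x⁻¹ * (u * x * u⁻¹)) * (u * (x⁻¹ * (v * x * v⁻¹)) * u⁻¹) by group]
        exact mul_mem h1 ((mem_normalizer_iff.1 (hEN ((mem_lines.1 hB).1 hu)) _).1 h2)
      obtain ⟨c, hc, hc'⟩ := CoprimeAct.exists_centralizing_mem_coset hEP (coprime_card_of_le hE le_rfl hpP)
        hNP.le hEN (Or.inl (Signalizer.isSolvable hE)) hx hzero
      rw [show x = c * (x⁻¹ * c)⁻¹ by group]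
      exact mul_mem (hEn hc) (inv_mem hc')
    refine Nat.eq_of_mul_eq_mul_right hNpos ?_
    calc (∏ B ∈ lines p E, Nat.card ↥(P ⊓ centralizer (B : Set G))) * Nat.card N
        = (∏ B ∈ lines p E, Nat.card ↥(N ⊓ centralizer (B : Set G))) * Nat.card P := by
          classical
          rw [← Finset.mul_prod_erase _ _ hB₀, ← Finset.mul_prod_erase _ _ hB₀,
            Finset.prod_congr rfl (fun B hB => hEq B (hothers B (Finset.mem_of_mem_erase hB) (Finset.ne_of_mem_erase hB))),
            mul_right_comm, hCov B₀ hB₀c]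
          ring
      _ = _ := by rw [hihN, hEq E hEn]; ring
  · have hall : ∀ B ∈ lines p E, (P ⊓ centralizer (B : Set G)) ⊔ N = P := fun B hB =>
      le_antisymm (sup_le inf_le_left hNP.le) (hEc.ge.trans
        (sup_le_sup_right (inf_le_inf_left P (centralizer_le (mem_lines.1 hB).1)) N))
    refine Nat.eq_of_mul_eq_mul_right (pow_pos hNpos (lines p E).card) ?_
    obtain ⟨k, hk⟩ := Nat.exists_eq_add_of_le hcardpos
    rw [hk, Nat.add_sub_cancel_left] at hihN
    rw [hk, Nat.add_sub_cancel_left, ← hk]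
    have h1 : (∏ B ∈ lines p E, Nat.card ↥(P ⊓ centralizer (B : Set G))) * Nat.card N ^ (lines p E).card =
        (∏ B ∈ lines p E, Nat.card ↥(N ⊓ centralizer (B : Set G))) * Nat.card P ^ (lines p E).card := by
      rw [← Finset.prod_const, ← Finset.prod_mul_distrib, ← Finset.prod_const, ← Finset.prod_mul_distrib]
      exact Finset.prod_congr rfl fun B hB => hCov B (hall B hB)
    have h2 : (Nat.card ↥(P ⊓ centralizer (E : Set G)) * Nat.card N) ^ k =
        (Nat.card ↥(N ⊓ centralizer (E : Set G)) * Nat.card P) ^ k := by rw [hCov E hEc]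
    rw [h1, hihN, hk, pow_add, pow_one, pow_add, pow_one]
    rw [mul_pow, mul_pow] at h2
    calc Nat.card N * Nat.card ↥(N ⊓ centralizer (E : Set G)) ^ k * (Nat.card P * Nat.card P ^ k)
        = Nat.card P * Nat.card N * (Nat.card ↥(N ⊓ centralizer (E : Set G)) ^ k * Nat.card P ^ k) := by ring
      _ = _ := by rw [← h2]; ring

/-- The order formula for an elementary abelian group of order `p²` acting on a `p'`-group. -/
theorem wielandt {K : Subgroup G} (hpK : ¬ p ∣ Nat.card K) (hEK : E ≤ normalizer (K : Set G)) :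
    ∏ B ∈ lines p E, Nat.card ↥(K ⊓ centralizer (B : Set G)) =
      Nat.card K * Nat.card ↥(K ⊓ centralizer (E : Set G)) ^ ((lines p E).card - 1) := by
  classical
  have hne : ∀ Z : Subgroup G, Nat.card ↥(K ⊓ centralizer (Z : Set G)) ≠ 0 := fun Z => Nat.card_pos.ne'
  refine Nat.eq_of_factorization_eq (Finset.prod_ne_zero_iff.2 fun B _ => hne B)
    (mul_ne_zero Nat.card_pos.ne' (pow_ne_zero _ (hne E))) fun r => ?_
  by_cases hr : r.Prime
  swap
  · simp [Nat.factorization_eq_zero_of_not_prime _ hr]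
  haveI : Fact r.Prime := ⟨hr⟩
  rw [Nat.factorization_prod fun B _ => hne B, Finset.sum_apply',
    Nat.factorization_mul Nat.card_pos.ne' (pow_ne_zero _ (hne E)), Finsupp.add_apply,
    Nat.factorization_pow, Finsupp.smul_apply, smul_eq_mul]
  by_cases hrp : r = p
  · subst hrp
    have h0 : ∀ Z : Subgroup G, Z ≤ K → (Nat.card Z).factorization r = 0 := fun Z hZ =>
      Nat.factorization_eq_zero_of_not_dvd fun h => hpK (h.trans (card_dvd_of_le hZ))
    rw [h0 K le_rfl, h0 _ inf_le_left, Finset.sum_eq_zero fun B _ => h0 _ inf_le_left]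
    simp
  have hcop : (Nat.card E).Coprime (Nat.card K) := coprime_card_of_le hE le_rfl hpK
  have hsolv : Group.IsSolvable E ∨ Group.IsSolvable K := Or.inl (Signalizer.isSolvable hE)
  obtain ⟨P, hP⟩ := CoprimeAct.exists_invariant_sylow hEK hcop hsolv r
  have hPp : IsPGroup r ((P : Subgroup K).map K.subtype) := P.isPGroup'.map _
  have hPK : (P : Subgroup K).map K.subtype ≤ K := map_subtype_le _
  -- centralizers in an invariant Sylow subgroup are Sylow in centralizers
  have hsyl : ∀ Z : Subgroup G, Z ≤ E → Nat.card ↥((P : Subgroup K).map K.subtype ⊓ centralizer (Z : Set G)) =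
      r ^ (Nat.card ↥(K ⊓ centralizer (Z : Set G))).factorization r := by
    intro Z hZ
    have hCn : E ≤ normalizer ((K ⊓ centralizer (Z : Set G) : Subgroup G) : Set G) :=
      le_normalizer_inf_centralizer hE hEK hZ
    have hcop' : (Nat.card E).Coprime (Nat.card ↥(K ⊓ centralizer (Z : Set G))) :=
      hcop.coprime_dvd_right (card_dvd_of_le inf_le_left)
    obtain ⟨S, hS⟩ := CoprimeAct.exists_invariant_sylow hCn hcop' (Or.inl (Signalizer.isSolvable hE)) r
    have hSle : (S : Subgroup ↥(K ⊓ centralizer (Z : Set G))).map (K ⊓ centralizer (Z : Set G)).subtype ≤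
        K ⊓ centralizer (Z : Set G) := map_subtype_le _
    obtain ⟨Q, hSQ, hQ⟩ := CoprimeAct.exists_invariant_sylow_ge hEK hcop hsolv r
      (hSle.trans inf_le_left) (S.isPGroup'.map _) hS
    obtain ⟨c, hc, hcQP⟩ := CoprimeAct.invariant_sylow_conj hEK hcop hsolv r Q P hQ hP
    have hScard : Nat.card ↥((S : Subgroup ↥(K ⊓ centralizer (Z : Set G))).map (K ⊓ centralizer (Z : Set G)).subtype) =
        r ^ (Nat.card ↥(K ⊓ centralizer (Z : Set G))).factorization r := by
      rw [card_map_of_injective (subtype_injective _), S.card_eq_multiplicity]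
    refine le_antisymm ?_ ?_
    · obtain ⟨k, hk⟩ := IsPGroup.iff_card.1
        (hPp.to_le (inf_le_left : _ ⊓ centralizer (Z : Set G) ≤ _))
      have hd : r ^ k ∣ Nat.card ↥(K ⊓ centralizer (Z : Set G)) :=
        hk ▸ card_dvd_of_le (inf_le_inf_right _ hPK)
      rw [hk]
      exact Nat.pow_le_pow_right hr.pos ((hr.pow_dvd_iff_le_factorization (hne Z)).1 hd)
    · rw [← hScard]
      refine le_trans (le_of_eq ?_) (Subgroup.card_le_of_le (H :=
        ((S : Subgroup ↥(K ⊓ centralizer (Z : Set G))).map (K ⊓ centralizer (Z : Set G)).subtype).map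
          (MulAut.conj (c : G)).toMonoidHom) (le_inf ?_ ?_))
      · exact (card_map_of_injective (MulAut.conj (c : G)).injective).symm
      · rintro _ ⟨x, hx, rfl⟩
        obtain ⟨y, hy, rfl⟩ := hSQ hx
        refine ⟨MulAut.conj c y, ?_, rfl⟩
        rw [← hcQP]
        exact smul_mem_pointwise_smul y (MulAut.conj c) (Q : Subgroup K) hy
      · rintro _ ⟨x, hx, rfl⟩
        exact mul_mem (mul_mem (centralizer_le hZ hc) (hSle hx).2) (inv_mem (centralizer_le hZ hc))
  have h := wielandt_pgroup hE hE2 hrp hPp hP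
  rw [hsyl E le_rfl, Finset.prod_congr rfl fun B hB => hsyl B (mem_lines.1 hB).1, Finset.prod_pow_eq_pow_sum,
    card_map_of_injective (subtype_injective _), P.card_eq_multiplicity, ← pow_mul, ← pow_add,
    mul_comm _ ((lines p E).card - 1)] at h
  exact Nat.pow_right_injective hr.two_le h

omit hE hE2 in
theorem exists_le_card_sq {A : Subgroup G} (hA : Cfsg.IsElementaryAbelian p A) (hA2 : p ^ 2 ≤ Nat.card A) :
    ∃ E ≤ A, Nat.card E = p ^ 2 := by
  obtain ⟨k, hk⟩ := IsPGroup.iff_card.1 (isPGroup hA)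
  have h : p ^ 2 ∣ Nat.card A := by
    rw [hk] at hA2 ⊢
    exact pow_dvd_pow p ((Nat.pow_le_pow_iff_right (Fact.out : p.Prime).one_lt).1 hA2)
  obtain ⟨E, hE⟩ := Sylow.exists_subgroup_card_pow_prime p h
  exact ⟨E.map A.subtype, map_subtype_le _, (card_map_of_injective A.subtype_injective).trans hE⟩

/-- A factorization of all centralizers gives a factorization. -/
theorem coe_eq_mul_of_centralizers {K X Y : Subgroup G} (hpK : ¬ p ∣ Nat.card K)
    (hEK : E ≤ normalizer (K : Set G)) (hX : X ≤ K) (hY : Y ≤ K)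
    (hEX : E ≤ normalizer (X : Set G)) (hEY : E ≤ normalizer (Y : Set G))
    (hfac : ∀ a ∈ E, a ≠ 1 → ∀ k ∈ K ⊓ centralizer ({a} : Set G),
      ∃ x ∈ X ⊓ centralizer ({a} : Set G), ∃ y ∈ Y ⊓ centralizer ({a} : Set G), k = x * y) :
    (K : Set G) = (X : Set G) * (Y : Set G) := by
  classical
  have hpX : ¬ p ∣ Nat.card X := fun h => hpK (h.trans (card_dvd_of_le hX))
  have hpY : ¬ p ∣ Nat.card Y := fun h => hpK (h.trans (card_dvd_of_le hY))
  have hpXY : ¬ p ∣ Nat.card ↥(X ⊓ Y) := fun h => hpX (h.trans (card_dvd_of_le inf_le_left))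
  have hEXY : E ≤ normalizer ((X ⊓ Y : Subgroup G) : Set G) :=
    (le_inf hEX hEY).trans inf_normalizer_le_normalizer_inf
  have hkey : ∀ Z : Subgroup G, (∀ k ∈ K ⊓ centralizer (Z : Set G),
      ∃ x ∈ X ⊓ centralizer (Z : Set G), ∃ y ∈ Y ⊓ centralizer (Z : Set G), k = x * y) →
      Nat.card ↥(K ⊓ centralizer (Z : Set G)) * Nat.card ↥(X ⊓ Y ⊓ centralizer (Z : Set G)) =
        Nat.card ↥(X ⊓ centralizer (Z : Set G)) * Nat.card ↥(Y ⊓ centralizer (Z : Set G)) := by
    intro Z hZ
    rw [← Factor.card_mul_set (X ⊓ centralizer (Z : Set G)), inf_inf_distrib_right]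
    congr 1
    rw [← SetLike.coe_sort_coe]
    refine Nat.card_congr (Equiv.setCongr (Set.Subset.antisymm (fun k hk => ?_) ?_))
    · obtain ⟨x, hx, y, hy, rfl⟩ := hZ k hk
      exact Set.mul_mem_mul hx hy
    · rintro _ ⟨x, hx, y, hy, rfl⟩
      exact ⟨mul_mem (hX hx.1) (hY hy.1), mul_mem hx.2 hy.2⟩
  have hline : ∀ B ∈ lines p E, ∃ a ∈ E, a ≠ 1 ∧
      centralizer (B : Set G) = centralizer ({a} : Set G) := by
    intro B hB
    obtain ⟨a, haB, ha1⟩ : ∃ a ∈ B, a ≠ 1 := (bot_or_exists_ne_one _).resolve_left fun h => by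
      have := (mem_lines.1 hB).2
      rw [h, card_bot] at this
      exact (Fact.out : p.Prime).ne_one this.symm
    have haE := (mem_lines.1 hB).1 haB
    have hBa : zpowers a = B := Solvable.eq_of_le_of_card_le (zpowers_le.2 haB)
      (by rw [(mem_lines.1 hB).2, card_zpowers_eq hE haE ha1])
    refine ⟨a, haE, ha1, le_antisymm (centralizer_le (Set.singleton_subset_iff.2 haB)) fun x hx => ?_⟩
    rw [← hBa]
    refine mem_centralizer_iff.2 fun z hz => ?_
    obtain ⟨i, rfl⟩ := mem_zpowers_iff.1 hz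
    exact (Commute.zpow_left (mem_centralizer_singleton_iff.1 hx).symm i).eq
  have hprod : ∀ B ∈ lines p E, Nat.card ↥(K ⊓ centralizer (B : Set G)) *
      Nat.card ↥(X ⊓ Y ⊓ centralizer (B : Set G)) =
        Nat.card ↥(X ⊓ centralizer (B : Set G)) * Nat.card ↥(Y ⊓ centralizer (B : Set G)) := by
    intro B hB
    obtain ⟨a, ha, ha1, hC⟩ := hline B hB
    refine hkey B ?_
    rw [hC]
    exact hfac a ha ha1
  have hEE := hkey E fun k hk => by
    obtain ⟨a, ha, ha1⟩ : ∃ a ∈ E, a ≠ 1 := (bot_or_exists_ne_one _).resolve_left fun h => by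
      have := hE2; rw [h, card_bot] at this
      exact (Fact.out : p.Prime).ne_one (by nlinarith [(Fact.out : p.Prime).two_le])
    have hle : centralizer (E : Set G) ≤ centralizer ({a} : Set G) :=
      centralizer_le (Set.singleton_subset_iff.2 ha)
    have hpa : (Nat.card E).Coprime (Nat.card ↥(K ⊓ centralizer ({a} : Set G))) :=
      coprime_card_of_le hE le_rfl fun h => hpK (h.trans (card_dvd_of_le inf_le_left))
    obtain ⟨x, hx, y, hy, e⟩ := CoprimeAct.fixed_factor
      (le_normalizer_inf_centralizer_singleton hE hEK ha) hpa (Or.inl (Signalizer.isSolvable hE))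
      (inf_le_inf_right _ hX) (inf_le_inf_right _ hY)
      (le_normalizer_inf_centralizer_singleton hE hEX ha)
      (le_normalizer_inf_centralizer_singleton hE hEY ha) (hfac a ha ha1)
      (k := k) ⟨⟨hk.1, hle hk.2⟩, hk.2⟩
    exact ⟨x, ⟨hx.1.1, hx.2⟩, y, ⟨hy.1.1, hy.2⟩, e⟩
  refine Factor.coe_eq_mul hX hY (le_of_eq ?_)
  have h := Finset.prod_congr rfl hprod
  rw [Finset.prod_mul_distrib, Finset.prod_mul_distrib, wielandt hE hE2 hpK hEK, wielandt hE hE2 hpX hEX,
    wielandt hE hE2 hpY hEY, wielandt hE hE2 hpXY hEXY] at h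
  set n := (lines p E).card - 1
  rw [mul_mul_mul_comm, ← mul_pow, mul_mul_mul_comm _ (_ ^ n), ← mul_pow, hEE] at h
  exact Nat.eq_of_mul_eq_mul_right (pow_pos (Nat.mul_pos Nat.card_pos Nat.card_pos) n) h

end CfsgLib.Signalizer
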