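import Cfsg.Prelude.Def_Balance
import Cfsg.Agent.Solvable.CoprimeAct
import Cfsg.Agent.Solvable.CoprimeAbelian
import Cfsg.Agent.KGroup.CharP

/-!
Basic properties of signalizer functors, their families, and the generation lemma over
hyperplanes.
-/

set_option autoImplicit false
set_option linter.unusedSectionVars false
set_option linter.deprecated false
set_option linter.style.haveILetI false

namespace CfsgLib.Signalizer

open Subgroup Pointwise

variable {G : Type*} [Group G] [Finite G] {p : ℕ} [Fact p.Prime] {A : Subgroup G}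
  {θ : G → Subgroup G}

theorem le_normalizer_of_conj_mem {U : Subgroup G} (h : ∀ b ∈ A, ∀ u ∈ U, b * u * b⁻¹ ∈ U) :
    A ≤ normalizer (U : Set G) := fun b hb => mem_normalizer_iff.2 fun u =>
  ⟨h b hb u, fun hu => by
    have := h b⁻¹ (inv_mem hb) _ hu
    simpa [mul_assoc] using this⟩

theorem conj_mem_of_le_normalizer {U : Subgroup G} (h : A ≤ normalizer (U : Set G)) :
    ∀ b ∈ A, ∀ u ∈ U, b * u * b⁻¹ ∈ U := fun _ hb _ hu => (mem_normalizer_iff.1 (h hb) _).1 hu

section Elab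

variable (hA : Cfsg.IsElementaryAbelian p A)
include hA

theorem isPGroup : IsPGroup p A := fun a => ⟨1, Subtype.ext (by simpa using hA.2 a a.2)⟩

theorem commute {a b : G} (ha : a ∈ A) (hb : b ∈ A) : a * b = b * a :=
  congrArg Subtype.val (hA.1.1.comm ⟨a, ha⟩ ⟨b, hb⟩)

theorem le_centralizer_of_le {B : Subgroup G} (hB : B ≤ A) : A ≤ centralizer (B : Set G) :=
  fun _ hb => mem_centralizer_iff.2 fun _ hz => commute hA (hB hz) hb

theorem le_centralizer_singleton {a : G} (ha : a ∈ A) : A ≤ centralizer {a} :=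
  fun _ hb => mem_centralizer_singleton_iff.2 (commute hA hb ha)

theorem le_normalizer_inf_centralizer {X B : Subgroup G} (hX : A ≤ normalizer (X : Set G))
    (hB : B ≤ A) : A ≤ normalizer ((X ⊓ centralizer (B : Set G) : Subgroup G) : Set G) :=
  le_trans (le_inf hX ((le_centralizer_of_le hA hB).trans le_normalizer))
    inf_normalizer_le_normalizer_inf

theorem le_normalizer_inf_centralizer_singleton {X : Subgroup G} {a : G}
    (hX : A ≤ normalizer (X : Set G)) (ha : a ∈ A) :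
    A ≤ normalizer ((X ⊓ centralizer {a} : Subgroup G) : Set G) :=
  le_trans (le_inf hX ((le_centralizer_singleton hA ha).trans le_normalizer))
    inf_normalizer_le_normalizer_inf

theorem of_le {B : Subgroup G} (hB : B ≤ A) : Cfsg.IsElementaryAbelian p B :=
  ⟨⟨⟨fun x y => Subtype.ext (commute hA (hB x.2) (hB y.2))⟩⟩, fun b hb => hA.2 b (hB hb)⟩

theorem coprime_card {U : Subgroup G} (hU : ¬ p ∣ Nat.card U) :
    (Nat.card A).Coprime (Nat.card U) := by
  obtain ⟨k, hk⟩ := IsPGroup.iff_card.1 (isPGroup hA)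
  rw [hk]
  exact ((Fact.out : p.Prime).coprime_iff_not_dvd.2 hU).pow_left k

theorem isSolvable : Group.IsSolvable A := by
  haveI := (isPGroup hA).isNilpotent
  infer_instance

theorem coprime_card_of_le {B U : Subgroup G} (hB : B ≤ A) (hU : ¬ p ∣ Nat.card U) :
    (Nat.card B).Coprime (Nat.card U) :=
  (coprime_card hA hU).coprime_dvd_left (card_dvd_of_le hB)

theorem not_isCyclic (h2 : p ^ 2 ≤ Nat.card A) : ¬ IsCyclic A := by
  intro hc
  obtain ⟨g, hg⟩ := hc.exists_generator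
  have h1 : orderOf g = Nat.card A := orderOf_eq_card_of_forall_mem_zpowers hg
  have h3 : orderOf g ≤ p := by
    refine Nat.le_of_dvd (Fact.out : p.Prime).pos (orderOf_dvd_of_pow_eq_one ?_)
    exact Subtype.ext (by simpa using hA.2 g g.2)
  have h4 : p < p ^ 2 := lt_self_pow₀ (Fact.out : p.Prime).one_lt one_lt_two
  omega

theorem card_zpowers_eq {a : G} (ha : a ∈ A) (ha1 : a ≠ 1) : Nat.card (zpowers a) = p := by
  rw [Nat.card_zpowers]
  exact orderOf_eq_prime (hA.2 a ha) ha1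

theorem card_sup_zpowers {B : Subgroup G} (hB : B ≤ A) {a : G} (ha : a ∈ A) (haB : a ∉ B) :
    Nat.card ↥(zpowers a ⊔ B) = p * Nat.card B := by
  have ha1 : a ≠ 1 := fun h => haB (h ▸ one_mem B)
  have hn : zpowers a ≤ normalizer (B : Set G) :=
    (zpowers_le.2 ha).trans ((le_centralizer_of_le hA hB).trans (by
      intro x hx
      refine mem_normalizer_iff.2 fun b => ⟨fun hb => ?_, fun hb => ?_⟩
      · rw [← mem_centralizer_iff.1 hx b hb, mul_inv_cancel_right]; exact hb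
      · have h := mem_centralizer_iff.1 hx _ hb
        have e : b = x * b * x⁻¹ := by
          have := congrArg (fun t => x⁻¹ * t) h
          simpa [mul_assoc] using this
        rw [e]; exact hb))
  have hd : zpowers a ⊓ B = ⊥ := by
    refine (eq_bot_iff_forall _).2 fun x hx => ?_
    by_contra hx1
    have h1 : zpowers x ≤ zpowers a := zpowers_le.2 hx.1
    have h2 : zpowers x = zpowers a := CfsgLib.Solvable.eq_of_le_of_card_le h1
      (by rw [card_zpowers_eq hA ha ha1, card_zpowers_eq hA (hB hx.2) hx1])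
    exact haB (zpowers_le.2 hx.2 (h2 ▸ mem_zpowers a))
  rw [CfsgLib.Solvable.card_sup_of_disjoint hn hd, card_zpowers_eq hA ha ha1]

/-- `X` is generated by the centralizers in `X` of the `e`'s, for noncyclic `E ≤ A`. -/
theorem le_of_forall_centralizer {E X Y : Subgroup G} (hE : E ≤ A) (hE2 : p ^ 2 ≤ Nat.card E)
    (hEX : E ≤ normalizer (X : Set G)) (hX : ¬ p ∣ Nat.card X)
    (h : ∀ e ∈ E, e ≠ 1 → X ⊓ centralizer {e} ≤ Y) : X ≤ Y := by
  haveI := (of_le hA hE).1
  rw [← CfsgLib.CoprimeAct.generated_by_centralizers (not_isCyclic (of_le hA hE) hE2) hEX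
    (coprime_card_of_le hA hE hX)]
  exact iSup₂_le fun e he => h e he.1 he.2

/-- Generation by the centralizers of the subgroups of index at most `p`. -/
theorem le_of_forall_hyperplane {X Y : Subgroup G}
    (hAX : A ≤ normalizer (X : Set G)) (hX : ¬ p ∣ Nat.card X)
    (h : ∀ B : Subgroup G, B ≤ A → B.relIndex A ≤ p → X ⊓ centralizer (B : Set G) ≤ Y) :
    X ≤ Y := by
  suffices ∀ B : Subgroup G, B ≤ A → X ⊓ centralizer (B : Set G) ≤ Y by
    have h0 := this ⊥ bot_le
    rwa [inf_eq_left.2] at h0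
    intro x _
    exact mem_centralizer_iff.2 fun z hz => by rw [mem_bot.1 hz]; simp
  intro B
  induction B using WellFoundedGT.induction with | _ B ih => ?_
  intro hB
  by_cases hi : B.relIndex A ≤ p
  · exact h B hB hi
  · push Not at hi
    have hmul : B.relIndex A * Nat.card B = Nat.card A := by
      rw [← relIndex_bot_left, ← relIndex_bot_left, mul_comm]
      exact relIndex_mul_relIndex _ _ _ bot_le hB
    have hne : ∀ C : Subgroup G, C ≤ A → Nat.card C ≤ p * Nat.card B → ∃ a ∈ A, a ∉ C := by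
      intro C hC hCc
      by_contra hcon
      push Not at hcon
      have : Nat.card A ≤ Nat.card C := Subgroup.card_le_of_le hcon
      have hpos : 0 < Nat.card B := Nat.card_pos
      nlinarith
    obtain ⟨a, ha, haB⟩ := hne B hB (Nat.le_mul_of_pos_left _ (Fact.out : p.Prime).pos)
    obtain ⟨b, hb, hbB⟩ := hne (zpowers a ⊔ B) (sup_le (zpowers_le.2 ha) hB)
      (card_sup_zpowers hA hB ha haB).le
    set E := zpowers b ⊔ zpowers a with hE
    have hEA : E ≤ A := sup_le (zpowers_le.2 hb) (zpowers_le.2 ha)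
    have ha1 : a ≠ 1 := fun h => haB (h ▸ one_mem B)
    have hba : b ∉ zpowers a := fun h => hbB (mem_sup_left h)
    have hE2 : p ^ 2 ≤ Nat.card E := by
      rw [hE, card_sup_zpowers hA (zpowers_le.2 ha) hb hba, card_zpowers_eq hA ha ha1, sq]
    have hEB : ∀ e ∈ E, e ∈ B → e = 1 := by
      have hd : Nat.card ↥(E ⊔ B) = p * (p * Nat.card B) := by
        rw [hE, sup_assoc, card_sup_zpowers hA (sup_le (zpowers_le.2 ha) hB) hb hbB,
          card_sup_zpowers hA hB ha haB]
      have hn : E ≤ normalizer (B : Set G) := by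
        intro x hx
        refine mem_normalizer_iff.2 fun y => ⟨fun hy => ?_, fun hy => ?_⟩
        · rw [commute hA (hEA hx) (hB hy), mul_inv_cancel_right]; exact hy
        · have e : y = x * y * x⁻¹ := by
            have h := commute hA (hEA hx) (hB hy)
            have := congrArg (fun t => x⁻¹ * t) h
            simpa [mul_assoc] using this.symm
          rw [e]; exact hy
      have hm := CfsgLib.Solvable.card_sup_mul_card_inf hn
      rw [hd, hE, card_sup_zpowers hA (zpowers_le.2 ha) hb hba, card_zpowers_eq hA ha ha1,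
        ← hE] at hm
      have hpp : 0 < p * (p * Nat.card B) :=
        Nat.mul_pos (Fact.out : p.Prime).pos (Nat.mul_pos (Fact.out : p.Prime).pos Nat.card_pos)
      have h1 : Nat.card ↥(E ⊓ B) = 1 := by
        have : p * (p * Nat.card B) * Nat.card ↥(E ⊓ B) = p * (p * Nat.card B) * 1 := by
          rw [hm]; ring
        exact Nat.eq_of_mul_eq_mul_left hpp this
      exact fun e he1 he2 => (eq_bot_iff_forall _).1 (card_eq_one.1 h1) e ⟨he1, he2⟩
    have hXB := le_normalizer_inf_centralizer hA hAX hB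
    refine le_of_forall_centralizer hA hEA hE2 (hEA.trans hXB)
      (fun hd => hX (hd.trans (card_dvd_of_le inf_le_left))) fun e he he1 => ?_
    have hlt : B < zpowers e ⊔ B :=
      lt_of_le_of_ne le_sup_right fun h => he1 (hEB e he (h ▸ mem_sup_left (mem_zpowers e)))
    refine le_trans ?_ (ih _ hlt (sup_le (zpowers_le.2 (hEA he)) hB))
    intro x hx
    refine ⟨hx.1.1, mem_centralizer_iff.2 fun z hz => ?_⟩
    have hle : zpowers e ⊔ B ≤ centralizer {x} := by
      refine sup_le (zpowers_le.2 (mem_centralizer_singleton_iff.2 ?_)) fun z hz =>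
        mem_centralizer_singleton_iff.2 (mem_centralizer_iff.1 hx.1.2 z hz)
      exact (mem_centralizer_singleton_iff.1 hx.2).symm
    exact mem_centralizer_singleton_iff.1 (hle hz)

theorem inf_ne_bot_of_relIndex {B₁ B₂ : Subgroup G} (hA3 : p ^ 3 ≤ Nat.card A) (h₁ : B₁ ≤ A)
    (h₂ : B₂ ≤ A) (hi₁ : B₁.relIndex A ≤ p) (hi₂ : B₂.relIndex A ≤ p) : B₁ ⊓ B₂ ≠ ⊥ := by
  intro h
  have e : ∀ B : Subgroup G, B ≤ A → B.relIndex A * Nat.card B = Nat.card A := by
    intro B hB
    rw [← relIndex_bot_left, ← relIndex_bot_left, mul_comm]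
    exact relIndex_mul_relIndex _ _ _ bot_le hB
  have hn : B₁ ≤ normalizer (B₂ : Set G) := by
    refine le_normalizer_of_conj_mem fun x hx y hy => ?_
    rw [commute hA (h₁ hx) (h₂ hy), mul_inv_cancel_right]
    exact hy
  have h3 := CfsgLib.Solvable.card_sup_of_disjoint hn h
  have h4 : Nat.card ↥(B₁ ⊔ B₂) ≤ Nat.card A := Subgroup.card_le_of_le (sup_le h₁ h₂)
  have e1 : Nat.card A ≤ p * Nat.card B₁ := (e B₁ h₁) ▸ Nat.mul_le_mul_right _ hi₁
  have e2 : Nat.card A ≤ p * Nat.card B₂ := (e B₂ h₂) ▸ Nat.mul_le_mul_right _ hi₂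
  have hp2 : p ^ 2 < p ^ 3 := Nat.pow_lt_pow_right (Fact.out : p.Prime).one_lt (by norm_num)
  nlinarith

theorem exists_common_centralizer (hA3 : p ^ 3 ≤ Nat.card A) {N₁ N₂ D : Subgroup G}
    (hn₁ : A ≤ normalizer (N₁ : Set G)) (hn₂ : A ≤ normalizer (N₂ : Set G))
    (hp₁ : ¬ p ∣ Nat.card N₁) (hp₂ : ¬ p ∣ Nat.card N₂) (h₁ : ¬ N₁ ≤ D) (h₂ : ¬ N₂ ≤ D) :
    ∃ a ∈ A, a ≠ 1 ∧ ¬ N₁ ⊓ centralizer {a} ≤ D ∧ ¬ N₂ ⊓ centralizer {a} ≤ D := by
  have : ∀ N : Subgroup G, A ≤ normalizer (N : Set G) → ¬ p ∣ Nat.card N → ¬ N ≤ D →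
      ∃ B : Subgroup G, B ≤ A ∧ B.relIndex A ≤ p ∧ ¬ N ⊓ centralizer (B : Set G) ≤ D := by
    intro N hn hp hND
    by_contra hcon
    push Not at hcon
    exact hND (le_of_forall_hyperplane hA hn hp hcon)
  obtain ⟨B₁, hB₁, hi₁, hN₁⟩ := this N₁ hn₁ hp₁ h₁
  obtain ⟨B₂, hB₂, hi₂, hN₂⟩ := this N₂ hn₂ hp₂ h₂
  obtain ⟨⟨a, ha₁, ha₂⟩, hne⟩ := ne_bot_iff_exists_ne_one.1 (inf_ne_bot_of_relIndex hA hA3 hB₁ hB₂ hi₁ hi₂)
  refine ⟨a, hB₁ ha₁, fun h => hne (Subtype.ext h), fun h => hN₁ (le_trans ?_ h), fun h => hN₂ (le_trans ?_ h)⟩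
  · exact inf_le_inf_left _ (centralizer_le (by simpa using ha₁))
  · exact inf_le_inf_left _ (centralizer_le (by simpa using ha₂))

end Elab

section Family

variable (hA : Cfsg.IsElementaryAbelian p A) (hθ : Cfsg.IsSolvableSignalizerFunctor p A θ)

include hθ in
theorem theta_le_centralizer {a : G} (ha : a ∈ A) (ha1 : a ≠ 1) : θ a ≤ centralizer {a} :=
  hθ.1.1 a ha ha1

include hθ in
theorem theta_mem {a : G} (ha : a ∈ A) (ha1 : a ≠ 1) : θ a ∈ Cfsg.signalizerFamily p A θ :=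
  ⟨hθ.2 a ha ha1, hθ.1.2.1 a ha ha1, hθ.1.2.2.1 a ha ha1, fun b hb hb1 => hθ.1.2.2.2 a ha ha1 b hb hb1⟩

theorem family_le_normalizer {X : Subgroup G} (hX : X ∈ Cfsg.signalizerFamily p A θ) :
    A ≤ normalizer (X : Set G) := le_normalizer_of_conj_mem hX.2.2.1

theorem family_of_le {X Y : Subgroup G} (hX : X ∈ Cfsg.signalizerFamily p A θ) (hYX : Y ≤ X)
    (hY : A ≤ normalizer (Y : Set G)) : Y ∈ Cfsg.signalizerFamily p A θ := by
  haveI := hX.1
  exact ⟨Group.isSolvable_of_isSolvable_injective (inclusion_injective hYX),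
    fun h => hX.2.1 (h.trans (card_dvd_of_le hYX)), conj_mem_of_le_normalizer hY,
    fun a ha ha1 => (inf_le_inf_right _ hYX).trans (hX.2.2.2 a ha ha1)⟩

theorem bot_mem_family : (⊥ : Subgroup G) ∈ Cfsg.signalizerFamily p A θ :=
  ⟨inferInstance, by simp [(Fact.out : p.Prime).ne_one],
    fun b _ u hu => by simp [mem_bot.1 hu], fun _ _ _ => inf_le_left.trans bot_le⟩

theorem signalizerInf_le {B : Subgroup G} {b : G} (hb : b ∈ B) (hb1 : b ≠ 1) :
    Cfsg.signalizerInf B θ ≤ θ b :=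
  iInf_le (fun a : {a : G // a ∈ B ∧ a ≠ 1} => θ a) ⟨b, hb, hb1⟩

theorem le_signalizerInf {X B : Subgroup G} (hX : ∀ b ∈ B, b ≠ 1 → X ≤ θ b) :
    X ≤ Cfsg.signalizerInf B θ := le_iInf fun a => hX a a.2.1 a.2.2

theorem inf_centralizer_le_signalizerInf {X B : Subgroup G}
    (hX : X ∈ Cfsg.signalizerFamily p A θ) (hB : B ≤ A) :
    X ⊓ centralizer (B : Set G) ≤ Cfsg.signalizerInf B θ :=
  le_signalizerInf fun b hb hb1 =>
    (inf_le_inf_left X (centralizer_le (by simpa using hb))).trans (hX.2.2.2 b (hB hb) hb1)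

include hθ in
theorem signalizerInf_mem {B : Subgroup G} (hB : B ≤ A) (hB1 : B ≠ ⊥) :
    Cfsg.signalizerInf B θ ∈ Cfsg.signalizerFamily p A θ := by
  obtain ⟨⟨b, hb⟩, hne⟩ := ne_bot_iff_exists_ne_one.1 hB1
  have hb1 : b ≠ 1 := fun h => hne (Subtype.ext h)
  refine family_of_le (theta_mem hθ (hB hb) hb1) (signalizerInf_le hb hb1)
    (le_normalizer_of_conj_mem fun a ha u hu => ?_)
  simp only [Cfsg.signalizerInf, mem_iInf] at hu ⊢
  exact fun c => hθ.1.2.2.1 c (hB c.2.1) c.2.2 a ha u (hu c)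

include hθ in
theorem signalizerInf_le_centralizer {B : Subgroup G} (hB : B ≤ A) :
    Cfsg.signalizerInf B θ ≤ centralizer (B : Set G) := by
  intro x hx
  refine mem_centralizer_iff.2 fun b hb => ?_
  by_cases hb1 : b = 1
  · simp [hb1]
  · exact (mem_centralizer_singleton_iff.1
      (theta_le_centralizer hθ (hB hb) hb1 (signalizerInf_le hb hb1 hx))).symm

include hA hθ in
theorem family_le_of_forall {E X Y : Subgroup G} (hE : E ≤ A) (hE2 : p ^ 2 ≤ Nat.card E)
    (hX : X ∈ Cfsg.signalizerFamily p A θ)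
    (h : ∀ e ∈ E, e ≠ 1 → θ e ≤ Y) : X ≤ Y :=
  le_of_forall_centralizer hA hE hE2 (hE.trans (family_le_normalizer hX)) hX.2.1
    fun e he he1 => (hX.2.2.2 e (hE he) he1).trans (h e he he1)

include hθ in
theorem conj_mem_family {c : G} (hc : c ∈ Cfsg.signalizerInf A θ) {X : Subgroup G}
    (hX : X ∈ Cfsg.signalizerFamily p A θ) :
    X.map (MulAut.conj c).toMonoidHom ∈ Cfsg.signalizerFamily p A θ := by
  have hcA : ∀ a ∈ A, a * c = c * a := fun a ha =>
    mem_centralizer_iff.1 (signalizerInf_le_centralizer hθ le_rfl hc) a ha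
  haveI := hX.1
  refine ⟨Group.isSolvable_of_isSolvable_injective (f := (X.equivMapOfInjective
      (MulAut.conj c).toMonoidHom (MulAut.conj c).injective).symm.toMonoidHom)
      (MulEquiv.injective _), ?_, ?_, ?_⟩
  · rw [card_map_of_injective (f := (MulAut.conj c).toMonoidHom) (MulAut.conj c).injective]
    exact hX.2.1
  · rintro b hb _ ⟨u, hu, rfl⟩
    refine ⟨b * u * b⁻¹, hX.2.2.1 b hb u hu, ?_⟩
    show c * (b * u * b⁻¹) * c⁻¹ = b * (c * u * c⁻¹) * b⁻¹
    have h1 := hcA b hb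
    have h2 := hcA b⁻¹ (inv_mem hb)
    calc c * (b * u * b⁻¹) * c⁻¹ = (c * b) * u * (b⁻¹ * c⁻¹) := by group
      _ = (b * c) * u * (c⁻¹ * b⁻¹) := by
        rw [h1, show b⁻¹ * c⁻¹ = c⁻¹ * b⁻¹ by
          rw [← mul_inv_rev, ← mul_inv_rev, h1]]
      _ = b * (c * u * c⁻¹) * b⁻¹ := by group
  · intro a ha ha1
    rintro _ ⟨⟨u, hu, rfl⟩, hua⟩
    have hua' : (c * u * c⁻¹) * a = a * (c * u * c⁻¹) := mem_centralizer_singleton_iff.1 hua
    have h1 := hcA a ha
    have hu' : u ∈ centralizer {a} := mem_centralizer_singleton_iff.2 <| by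
      calc u * a = c⁻¹ * ((c * u * c⁻¹) * (c * a)) := by group
        _ = c⁻¹ * (((c * u * c⁻¹) * a) * c) := by rw [← h1]; group
        _ = c⁻¹ * (a * c * u) := by rw [hua']; group
        _ = a * u := by rw [h1]; group
    have h2 := hX.2.2.2 a ha ha1 ⟨hu, hu'⟩
    exact mul_mem (mul_mem (signalizerInf_le ha ha1 hc) h2) (inv_mem (signalizerInf_le ha ha1 hc))

include hA in
theorem sup_mem_family {X Y : Subgroup G} (hX : X ∈ Cfsg.signalizerFamily p A θ)
    (hY : Y ∈ Cfsg.signalizerFamily p A θ) (hn : Y ≤ normalizer (X : Set G)) :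
    X ⊔ Y ∈ Cfsg.signalizerFamily p A θ := by
  have hAX := family_le_normalizer hX
  have hAY := family_le_normalizer hY
  have hK : ¬ p ∣ Nat.card ↥(X ⊔ Y) := by
    rw [sup_comm]
    intro h
    rcases (Nat.Prime.dvd_mul Fact.out).1 (h.trans (CfsgLib.Solvable.card_sup_dvd hn)) with h1 | h1
    · exact hY.2.1 h1
    · exact hX.2.1 h1
  have hAK : A ≤ normalizer ((X ⊔ Y : Subgroup G) : Set G) :=
    (le_inf hAX hAY).trans (normalizer_inf_normalizer_le_normalizer_sup X Y)
  have hsol : Group.IsSolvable ↥(X ⊔ Y) := by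
    have hXn : (X.subgroupOf (X ⊔ Y)).Normal :=
      (normal_subgroupOf_iff_le_normalizer le_sup_left).2 (sup_le le_normalizer hn)
    haveI := hX.1
    haveI := hY.1
    haveI : Group.IsSolvable (X.subgroupOf (X ⊔ Y)) :=
      Group.isSolvable_of_isSolvable_injective
        (f := (subgroupOfEquivOfLe (le_sup_left : X ≤ X ⊔ Y)).toMonoidHom) (MulEquiv.injective _)
    haveI : Group.IsSolvable (↥(X ⊔ Y) ⧸ X.subgroupOf (X ⊔ Y)) := by
      refine Group.isSolvable_of_surjective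
        (f := (QuotientGroup.mk' (X.subgroupOf (X ⊔ Y))).comp (inclusion le_sup_right : Y →* ↥(X ⊔ Y))) ?_
      intro q
      obtain ⟨k, rfl⟩ := QuotientGroup.mk'_surjective _ q
      obtain ⟨y, hy, x, hx, he⟩ :=
        (CfsgLib.Solvable.mem_sup_of_le_normalizer hn).1 (by rw [sup_comm]; exact k.2)
      refine ⟨⟨y, hy⟩, QuotientGroup.eq.2 ?_⟩
      rw [mem_subgroupOf]
      have he' : (y : G)⁻¹ * k = x := by rw [← he]; group
      simpa [he'] using hx
    exact Group.isSolvable_of_ker_le_range (X.subgroupOf (X ⊔ Y)).subtype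
      (QuotientGroup.mk' (X.subgroupOf (X ⊔ Y))) (by simp)
  refine ⟨hsol, hK, conj_mem_of_le_normalizer hAK, fun a ha ha1 k hk => ?_⟩
  have hXY : ∀ k ∈ X ⊔ Y, ∃ x ∈ X, ∃ y ∈ Y, k = x * y := by
    intro k hk
    rw [← SetLike.mem_coe, coe_mul_of_right_le_normalizer_left _ _ hn] at hk
    obtain ⟨x, hx, y, hy, rfl⟩ := hk
    exact ⟨x, hx, y, hy, rfl⟩
  have hz : zpowers a ≤ A := zpowers_le.2 ha
  have hcent : ∀ x, x ∈ centralizer ((zpowers a : Subgroup G) : Set G) ↔ x ∈ centralizer {a} := by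
    intro x
    refine ⟨fun h => centralizer_le (by simp) h, fun h => mem_centralizer_iff.2 fun z hz => ?_⟩
    obtain ⟨i, rfl⟩ := mem_zpowers_iff.1 hz
    exact (Commute.zpow_left (mem_centralizer_singleton_iff.1 h).symm i).eq
  obtain ⟨x, hx, y, hy, rfl⟩ := CfsgLib.CoprimeAct.fixed_factor (A := zpowers a) (hz.trans hAK)
    (coprime_card_of_le hA hz hK) (Or.inr hsol) le_sup_left le_sup_right (hz.trans hAX)
    (hz.trans hAY) hXY (show k ∈ (X ⊔ Y) ⊓ centralizer ((zpowers a : Subgroup G) : Set G) from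
      ⟨hk.1, (hcent k).2 hk.2⟩)
  exact mul_mem (hX.2.2.2 a ha ha1 ⟨hx.1, (hcent x).1 hx.2⟩)
    (hY.2.2.2 a ha ha1 ⟨hy.1, (hcent y).1 hy.2⟩)

end Family

end CfsgLib.Signalizer
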