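import Cfsg.Prelude.Def_Local
import Cfsg.Agent.Solvable.Fitting
import Cfsg.Agent.KGroup.CharP
import Cfsg.Agent.Coprime.Sylow

/-!
The `p'`-core of a `p`-local subgroup of a `p`-constrained group, and balance for solvable
centralizers.
-/

set_option autoImplicit false
set_option linter.unusedSectionVars false
set_option linter.deprecated false
set_option linter.style.haveILetI false

namespace CfsgLib.Signalizer

open Subgroup
open scoped commutatorElement

variable {G : Type*} [Group G] [Finite G] {p : ℕ} [Fact p.Prime]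

/-- A `p'`-subgroup centralizing the `p`-subgroup `P` and normalized by `C(P)` lies in `O_{p'}(G)`
when `G` is `p`-constrained. -/
theorem le_pPrimeCore_of_centralizes
    (hc : centralizer (Cfsg.pCore p (G ⧸ Cfsg.pPrimeCore p G) : Set (G ⧸ Cfsg.pPrimeCore p G)) ≤
      Cfsg.pCore p (G ⧸ Cfsg.pPrimeCore p G))
    {P D : Subgroup G} (hP : IsPGroup p P) (hDP : D ≤ centralizer (P : Set G))
    (hPD : centralizer (P : Set G) ≤ normalizer (D : Set G)) (hD : (Nat.card D).Coprime p) :
    D ≤ Cfsg.pPrimeCore p G := by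
  set O := Cfsg.pPrimeCore p G
  set f := QuotientGroup.mk' O with hf
  set F := Cfsg.pCore p (G ⧸ O)
  have hF : IsPGroup p F := CfsgLib.Solvable.isPGroup_pCore p
  intro d hd
  rw [← QuotientGroup.ker_mk' O, MonoidHom.mem_ker]
  have hdiv : orderOf (f d) ∣ Nat.card D :=
    (orderOf_map_dvd f d).trans (orderOf_dvd_natCard D hd)
  have hcop : (orderOf (f d)).Coprime p := hD.coprime_dvd_left hdiv
  have hTR : P.map f ≤ normalizer (F : Set (G ⧸ O)) := le_normalizer_of_normal
  have hyT : f d ∈ centralizer ((P.map f : Subgroup (G ⧸ O)) : Set (G ⧸ O)) := by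
    refine mem_centralizer_iff.2 ?_
    rintro _ ⟨x, hx, rfl⟩
    rw [← map_mul, ← map_mul, mem_centralizer_iff.1 (hDP hd) x hx]
  have hfix : F ⊓ centralizer ((P.map f : Subgroup (G ⧸ O)) : Set (G ⧸ O)) ≤ centralizer {f d} := by
    intro z hz
    obtain ⟨g, rfl⟩ := QuotientGroup.mk'_surjective O z
    haveI := hP.isNilpotent
    obtain ⟨j, hj⟩ := IsPGroup.iff_card.1 hP
    obtain ⟨c, hc1, hc2⟩ := CfsgLib.Coprime.exists_commute_mem_coset P O le_normalizer_of_normal
      (hj ▸ ((CfsgLib.Solvable.coprime_card_pPrimeCore p).pow_right j).symm) g (fun x hx => by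
        rw [← QuotientGroup.ker_mk' O, MonoidHom.mem_ker]
        have h1 := mem_centralizer_iff.1 hz.2 (f x) ⟨x, hx, rfl⟩
        rw [hf] at h1
        simp only [map_mul, map_inv]
        rw [h1]
        group)
    have hce : f c = f g := by
      have : f (g⁻¹ * c) = 1 := (QuotientGroup.eq_one_iff _).2 hc2
      rw [map_mul, map_inv, inv_mul_eq_one] at this
      exact this.symm
    have hcD : c * d * c⁻¹ ∈ D :=
      (mem_normalizer_iff.1 (hPD (mem_centralizer_iff.2 hc1)) d).1 hd
    have h2 : ⁅f g, f d⁆ ∈ D.map f := by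
      rw [← hce, ← map_commutatorElement]
      exact mem_map_of_mem f (by
        rw [commutatorElement_def]
        exact mul_mem hcD (inv_mem hd))
    have h3 : ⁅f g, f d⁆ ∈ F := by
      rw [show ⁅f g, f d⁆ = f g * (f d * (f g)⁻¹ * (f d)⁻¹) by simp [commutatorElement_def, mul_assoc]]
      exact mul_mem hz.1 ((inferInstance : F.Normal).conj_mem _ (inv_mem hz.1) _)
    obtain ⟨k, hk⟩ := IsPGroup.iff_card.1 hF
    have h4 : (D.map f) ⊓ F = ⊥ := inf_eq_bot_of_coprime
      (hk ▸ (hD.pow_right k).coprime_dvd_left (card_map_dvd _ _))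
    have h5 : ⁅f g, f d⁆ = 1 := mem_bot.1 (h4 ▸ (mem_inf.2 ⟨h2, h3⟩))
    exact mem_centralizer_singleton_iff.2 (commutatorElement_eq_one_iff_mul_comm.1 h5)
  have hR := CfsgLib.CharP.centralizes_of_centralizes_fixed (hP.map f) hF hTR
    (le_normalizer_of_normal (H := F) (K := ⊤) (mem_top _)) hyT hcop hfix
  have hdF : f d ∈ F := hc (mem_centralizer_iff.2 fun z hz =>
    mem_centralizer_singleton_iff.1 (hR hz))
  obtain ⟨k, hk⟩ := IsPGroup.iff_card.1 hF
  have h6 : orderOf (f d) = 1 := Nat.eq_one_of_dvd_coprimes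
    (hcop.pow_right k) dvd_rfl (hk ▸ orderOf_dvd_natCard F hdF)
  exact orderOf_eq_one_iff.1 h6

theorem centralizer_pCore_quotient_le [Group.IsSolvable G] :
    centralizer (Cfsg.pCore p (G ⧸ Cfsg.pPrimeCore p G) : Set (G ⧸ Cfsg.pPrimeCore p G)) ≤
      Cfsg.pCore p (G ⧸ Cfsg.pPrimeCore p G) :=
  CfsgLib.Fitting.centralizer_pCore_le (CfsgLib.Fitting.pPrimeCore_quotient_eq_bot p)

theorem mem_centralizerPPrimeCore_le {x : G} :
    Cfsg.centralizerPPrimeCore p x ≤ centralizer {x} := map_subtype_le _

theorem coprime_card_centralizerPPrimeCore (x : G) :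
    (Nat.card (Cfsg.centralizerPPrimeCore p x)).Coprime p := by
  rw [Cfsg.centralizerPPrimeCore, card_map_of_injective (subtype_injective _)]
  exact CfsgLib.Solvable.coprime_card_pPrimeCore p

theorem centralizer_le_normalizer_centralizerPPrimeCore (x : G) :
    centralizer {x} ≤ normalizer (Cfsg.centralizerPPrimeCore p x : Set G) := by
  have h := le_normalizer_map (H := Cfsg.pPrimeCore p ↥(centralizer ({x} : Set G)))
    (centralizer ({x} : Set G)).subtype
  rw [normalizer_eq_top, ← MonoidHom.range_eq_map, range_subtype] at h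
  exact h

/-- Balance for commuting `p`-elements when the target centralizer is solvable. -/
theorem centralizerPPrimeCore_inf_le {x y : G} (hx : x ^ p = 1) (hxy : x * y = y * x)
    (hs : Group.IsSolvable ↥(centralizer ({y} : Set G))) :
    Cfsg.centralizerPPrimeCore p x ⊓ centralizer {y} ≤ Cfsg.centralizerPPrimeCore p y := by
  set H := centralizer ({y} : Set G)
  set D₀ := Cfsg.centralizerPPrimeCore p x ⊓ H
  have hxH : x ∈ H := mem_centralizer_singleton_iff.2 hxy
  set x' : H := ⟨x, hxH⟩
  have hP : IsPGroup p (zpowers x') := by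
    rintro ⟨g, hg⟩
    obtain ⟨k, rfl⟩ := mem_zpowers_iff.1 hg
    refine ⟨1, Subtype.ext ?_⟩
    have hx' : x' ^ p = 1 := Subtype.ext (by simpa [x'] using hx)
    simp only [pow_one, SubgroupClass.coe_pow, OneMemClass.coe_one]
    rw [← zpow_natCast, zpow_comm, zpow_natCast, hx', one_zpow]
  have hc : ∀ c : H, c ∈ centralizer ((zpowers x' : Subgroup H) : Set H) → (c : G) ∈ centralizer {x} :=
    fun c hc => mem_centralizer_singleton_iff.2
      (congrArg Subtype.val (mem_centralizer_iff.1 hc x' (mem_zpowers x'))).symm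
  have hle : D₀.subgroupOf H ≤ Cfsg.pPrimeCore p H := by
    refine le_pPrimeCore_of_centralizes centralizer_pCore_quotient_le hP ?_ ?_ ?_
    · intro d hd
      have hdx : (d : G) * x = x * d :=
        mem_centralizer_singleton_iff.1 (mem_centralizerPPrimeCore_le hd.1)
      refine mem_centralizer_iff.2 fun z hz => ?_
      obtain ⟨k, rfl⟩ := mem_zpowers_iff.1 hz
      exact ((Commute.zpow_left (show Commute x' d from (Subtype.ext hdx).symm) k).eq)
    · intro c hcc
      have h1 : (c : G) ∈ normalizer (D₀ : Set G) :=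
        inf_normalizer_le_normalizer_inf
          (mem_inf.2 ⟨centralizer_le_normalizer_centralizerPPrimeCore x (hc c hcc), le_normalizer c.2⟩)
      rw [mem_normalizer_iff]
      intro d
      simpa [mem_subgroupOf] using mem_normalizer_iff.1 h1 (d : G)
    · rw [Nat.card_congr (subgroupOfEquivOfLe (inf_le_right : D₀ ≤ H)).toEquiv]
      exact (coprime_card_centralizerPPrimeCore x).coprime_dvd_left (card_dvd_of_le inf_le_left)
  intro d hd
  exact ⟨⟨d, hd.2⟩, hle (show (⟨d, hd.2⟩ : H) ∈ D₀.subgroupOf H from hd), rfl⟩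

end CfsgLib.Signalizer
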