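import Cfsg.Agent.Signalizer.Basic

/-!
The transitivity theorem for maximal `q`-members of the family of a signalizer functor.
-/

set_option autoImplicit false
set_option linter.unusedSectionVars false
set_option linter.deprecated false
set_option linter.style.haveILetI false

namespace CfsgLib.Signalizer

open Subgroup Pointwise

variable {G : Type*} [Group G] [Finite G] {p : ℕ} [Fact p.Prime] {A : Subgroup G}
  {θ : G → Subgroup G} {q : ℕ} [Fact q.Prime]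

/-- A maximal `q`-member of the family. -/
def IsMaxMember (p : ℕ) (A : Subgroup G) (θ : G → Subgroup G) (q : ℕ) (Q : Subgroup G) : Prop :=
  Q ∈ Cfsg.signalizerFamily p A θ ∧ IsPGroup q Q ∧
    ∀ R ∈ Cfsg.signalizerFamily p A θ, IsPGroup q R → Q ≤ R → R = Q

theorem exists_maxMember_ge {Q : Subgroup G} (hQ : Q ∈ Cfsg.signalizerFamily p A θ)
    (hq : IsPGroup q Q) : ∃ R, Q ≤ R ∧ IsMaxMember p A θ q R := by
  obtain ⟨R, hQR, ⟨h1, h2⟩, hmax⟩ := exists_maximal_ge_of_wellFoundedGT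
    (fun R : Subgroup G => R ∈ Cfsg.signalizerFamily p A θ ∧ IsPGroup q R) Q ⟨hQ, hq⟩
  exact ⟨R, hQR, h1, h2, fun S hS hSq hle => le_antisymm (hmax ⟨hS, hSq⟩ hle) hle⟩

variable (hA : Cfsg.IsElementaryAbelian p A) (hθ : Cfsg.IsSolvableSignalizerFunctor p A θ)
include hA hθ

omit hA in
theorem IsMaxMember.conj {c : G} (hc : c ∈ Cfsg.signalizerInf A θ) {Q : Subgroup G}
    (hQ : IsMaxMember p A θ q Q) :
    IsMaxMember p A θ q (Q.map (MulAut.conj c).toMonoidHom) := by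
  refine ⟨conj_mem_family hθ hc hQ.1, hQ.2.1.map _, fun R hR hRq hle => ?_⟩
  have h1 := hQ.2.2 (R.map (MulAut.conj c⁻¹).toMonoidHom) (conj_mem_family hθ (inv_mem hc) hR)
    (hRq.map _) (fun x hx => ⟨c * x * c⁻¹, hle ⟨x, hx, rfl⟩, by simp [mul_assoc]⟩)
  rw [← h1]
  ext x
  simp [mem_map, mul_assoc]

/-- An `A`-invariant Sylow `q`-subgroup of a member containing the given `A`-invariant
`q`-subgroup, as a subgroup of `G`. -/
theorem exists_sylow_member {H U : Subgroup G} (hH : H ∈ Cfsg.signalizerFamily p A θ) (hUH : U ≤ H)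
    (hUq : IsPGroup q U) (hUA : A ≤ normalizer (U : Set G)) :
    ∃ S : Sylow q H, U ≤ (S : Subgroup H).map H.subtype ∧
      (S : Subgroup H).map H.subtype ∈ Cfsg.signalizerFamily p A θ ∧
      IsPGroup q ↥((S : Subgroup H).map H.subtype) := by
  obtain ⟨S, h1, h2⟩ := CfsgLib.CoprimeAct.exists_invariant_sylow_ge (family_le_normalizer hH)
    (coprime_card hA hH.2.1) (Or.inl (isSolvable hA)) q hUH hUq hUA
  exact ⟨S, h1, family_of_le hH (map_subtype_le _) h2, S.2.map _⟩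

/-- **The transitivity theorem**: maximal `q`-members are conjugate under `θ(C(A))`. -/
theorem transitivity (hA3 : p ^ 3 ≤ Nat.card A) {Q₁ Q₂ : Subgroup G}
    (h₁ : IsMaxMember p A θ q Q₁) (h₂ : IsMaxMember p A θ q Q₂) :
    ∃ c ∈ Cfsg.signalizerInf A θ, Q₁.map (MulAut.conj c).toMonoidHom = Q₂ := by
  by_contra hcon
  set T : Set (Subgroup G × Subgroup G) := {P | IsMaxMember p A θ q P.1 ∧ IsMaxMember p A θ q P.2 ∧
    ¬ ∃ c ∈ Cfsg.signalizerInf A θ, P.1.map (MulAut.conj c).toMonoidHom = P.2} with hT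
  obtain ⟨P, hP, hmax⟩ := Set.Finite.exists_maximalFor
    (fun P : Subgroup G × Subgroup G => Nat.card ↥(P.1 ⊓ P.2)) T (Set.toFinite _)
    ⟨(Q₁, Q₂), h₁, h₂, hcon⟩
  obtain ⟨R₁, R₂⟩ := P
  obtain ⟨hR₁, hR₂, hno⟩ := hP
  simp only at hR₁ hR₂ hno hmax
  clear hcon h₁ h₂
  set D := R₁ ⊓ R₂ with hD
  have hbig : ∀ M₁ M₂, IsMaxMember p A θ q M₁ → IsMaxMember p A θ q M₂ →
      Nat.card D < Nat.card ↥(M₁ ⊓ M₂) →
      ∃ c ∈ Cfsg.signalizerInf A θ, M₁.map (MulAut.conj c).toMonoidHom = M₂ := by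
    intro M₁ M₂ hM₁ hM₂ hlt
    by_contra hc
    have h2 : Nat.card ↥(M₁ ⊓ M₂) ≤ Nat.card D := hmax (j := (M₁, M₂)) ⟨hM₁, hM₂, hc⟩ hlt.le
    omega
  have hA1 : A ≠ ⊥ := by
    intro h
    rw [h, card_bot] at hA3
    have := one_lt_pow₀ (Fact.out : p.Prime).one_lt (show (3 : ℕ) ≠ 0 by norm_num)
    omega
  have hne1 : D ≠ R₁ := by
    intro h
    have h12 : R₁ ≤ R₂ := h ▸ inf_le_right
    exact hno ⟨1, one_mem _, by rw [← hR₁.2.2 R₂ hR₂.1 hR₂.2.1 h12]; ext; simp⟩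
  have hne2 : D ≠ R₂ := by
    intro h
    have h21 : R₂ ≤ R₁ := h ▸ inf_le_left
    exact hno ⟨1, one_mem _, by rw [hR₂.2.2 R₁ hR₁.1 hR₁.2.1 h21]; ext; simp⟩
  have hAD : A ≤ normalizer (D : Set G) :=
    (le_inf (family_le_normalizer hR₁.1) (family_le_normalizer hR₂.1)).trans
      inf_normalizer_le_normalizer_inf
  have hDmem : D ∈ Cfsg.signalizerFamily p A θ := family_of_le hR₁.1 inf_le_left hAD
  have hDq : IsPGroup q D := hR₁.2.1.to_le inf_le_left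
  set N := normalizer (D : Set G) with hN
  have hgrow : ∀ R, IsMaxMember p A θ q R → D ≤ R → D ≠ R → ¬ N ⊓ R ≤ D := by
    intro R hR hle hne hsub
    obtain ⟨x, hxR, hxD, hxN⟩ := CfsgLib.CharP.exists_mem_normalizer_notMem hR.2.1
      (lt_of_le_of_ne hle hne)
    exact hxD (hsub ⟨hxN, hxR⟩)
  have hANR : ∀ R, IsMaxMember p A θ q R → A ≤ normalizer ((N ⊓ R : Subgroup G) : Set G) :=
    fun R hR => (le_inf (hAD.trans le_normalizer) (family_le_normalizer hR.1)).trans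
      inf_normalizer_le_normalizer_inf
  have hpNR : ∀ R, IsMaxMember p A θ q R → ¬ p ∣ Nat.card ↥(N ⊓ R) :=
    fun R hR h => hR.1.2.1 (h.trans (card_dvd_of_le inf_le_right))
  obtain ⟨a, ha, ha1, hN₁, hN₂⟩ := exists_common_centralizer hA hA3 (hANR R₁ hR₁) (hANR R₂ hR₂)
    (hpNR R₁ hR₁) (hpNR R₂ hR₂) (hgrow R₁ hR₁ inf_le_left hne1) (hgrow R₂ hR₂ inf_le_right hne2)
  set L := θ a ⊓ N
  have hAL : A ≤ normalizer (L : Set G) :=
    (le_inf (family_le_normalizer (theta_mem hθ ha ha1)) (hAD.trans le_normalizer)).trans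
      inf_normalizer_le_normalizer_inf
  have hK : D ⊔ L ∈ Cfsg.signalizerFamily p A θ :=
    sup_mem_family hA hDmem (family_of_le (theta_mem hθ ha ha1) inf_le_left hAL) inf_le_right
  have hnew : ∀ R, IsMaxMember p A θ q R → D ≤ R → ¬ N ⊓ R ⊓ centralizer {a} ≤ D →
      ∃ S : Sylow q ↥(D ⊔ L), ∃ M, IsMaxMember p A θ q M ∧
        A ≤ normalizer ((S : Subgroup ↥(D ⊔ L)).map (D ⊔ L).subtype : Set G) ∧
        (S : Subgroup ↥(D ⊔ L)).map (D ⊔ L).subtype ≤ M ∧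
        Nat.card D < Nat.card ↥((S : Subgroup ↥(D ⊔ L)).map (D ⊔ L).subtype) ∧
        ∃ c ∈ Cfsg.signalizerInf A θ, R.map (MulAut.conj c).toMonoidHom = M := by
    intro R hR hDR hRa
    set C := N ⊓ R ⊓ centralizer {a}
    have hC : C ≤ L := le_inf ((inf_le_inf_right _ inf_le_right).trans (hR.1.2.2.2 a ha ha1))
      (inf_le_left.trans inf_le_left)
    set U := D ⊔ C
    have hUR : U ≤ R := sup_le hDR (inf_le_left.trans inf_le_right)
    have hUA : A ≤ normalizer (U : Set G) :=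
      (le_inf hAD (le_normalizer_inf_centralizer_singleton hA (hANR R hR) ha)).trans
        (normalizer_inf_normalizer_le_normalizer_sup _ _)
    obtain ⟨S, hUS, hSmem, hSq⟩ := exists_sylow_member hA hθ hK (sup_le_sup_left hC D)
      (hR.2.1.to_le hUR) hUA
    obtain ⟨M, hSM, hM⟩ := exists_maxMember_ge hSmem hSq
    have hlt : D < U := lt_of_le_of_ne le_sup_left fun h => hRa (h ▸ le_sup_right)
    have hltc : Nat.card D < Nat.card U := CfsgLib.Solvable.card_lt_of_lt hlt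
    refine ⟨S, M, hM, family_le_normalizer hSmem, hSM,
      hltc.trans_le (Subgroup.card_le_of_le hUS), hbig R M hR hM ?_⟩
    exact hltc.trans_le (Subgroup.card_le_of_le (le_inf hUR (hUS.trans hSM)))
  obtain ⟨S₁, M₁, hM₁, hS₁A, hS₁M, hlt₁, c₁, hc₁, he₁⟩ := hnew R₁ hR₁ inf_le_left hN₁
  obtain ⟨S₂, M₂, hM₂, hS₂A, hS₂M, hlt₂, c₂, hc₂, he₂⟩ := hnew R₂ hR₂ inf_le_right hN₂
  obtain ⟨k, hkA, hk⟩ := CfsgLib.CoprimeAct.invariant_sylow_conj (family_le_normalizer hK)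
    (coprime_card hA hK.2.1) (Or.inl (isSolvable hA)) q S₁ S₂ hS₁A hS₂A
  have hkθ : (k : G) ∈ Cfsg.signalizerInf A θ :=
    inf_centralizer_le_signalizerInf hK le_rfl ⟨k.2, hkA⟩
  have hsub : (S₂ : Subgroup ↥(D ⊔ L)).map (D ⊔ L).subtype ≤
      M₁.map (MulAut.conj (k : G)).toMonoidHom := by
    rw [← hk, CfsgLib.SZ.conj_smul_map]
    exact fun x hx => map_mono hS₁M hx
  obtain ⟨c₃, hc₃, he₃⟩ := hbig _ M₂ (hM₁.conj hθ hkθ) hM₂
    (hlt₂.trans_le (Subgroup.card_le_of_le (le_inf hsub hS₂M)))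
  refine hno ⟨c₂⁻¹ * (c₃ * k * c₁), mul_mem (inv_mem hc₂) (mul_mem (mul_mem hc₃ hkθ) hc₁), ?_⟩
  have e : R₁.map (MulAut.conj (c₃ * k * c₁)).toMonoidHom = M₂ := by
    rw [← he₃, ← he₁, map_map, map_map]
    congr 1
    ext x
    simp [mul_assoc]
  have e2 : R₂ = M₂.map (MulAut.conj c₂⁻¹).toMonoidHom := by
    rw [← he₂, map_map]
    ext x
    simp [mem_map, mul_assoc]
  rw [e2, ← e, map_map]
  congr 1
  ext x
  simp [mul_assoc]

theorem sylow_of_maxMember (hA3 : p ^ 3 ≤ Nat.card A) {Q H : Subgroup G}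
    (hQ : IsMaxMember p A θ q Q) (hH : H ∈ Cfsg.signalizerFamily p A θ) :
    ∃ c ∈ Cfsg.signalizerInf A θ, ∃ S : Sylow q H,
      (S : Subgroup H).map H.subtype = Q.map (MulAut.conj c).toMonoidHom ⊓ H := by
  obtain ⟨S, -, hSmem, hSq⟩ := exists_sylow_member (q := q) hA hθ hH bot_le IsPGroup.of_bot
    (le_normalizer_of_conj_mem (A := A) fun b _ u hu => by simp [mem_bot.1 hu])
  obtain ⟨M, hSM, hM⟩ := exists_maxMember_ge hSmem hSq
  obtain ⟨c, hc, he⟩ := transitivity hA hθ hA3 hQ hM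
  refine ⟨c, hc, S, le_antisymm (le_inf (he ▸ hSM) (map_subtype_le _)) ?_⟩
  have hle : (S : Subgroup H) ≤ (Q.map (MulAut.conj c).toMonoidHom).subgroupOf H := by
    intro x hx
    rw [mem_subgroupOf, he]
    exact hSM (mem_map_of_mem H.subtype hx)
  have heq := S.3 ((he ▸ hM.2.1).comap_subtype) hle
  rw [← heq, subgroupOf_map_subtype]

end CfsgLib.Signalizer
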