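import Cfsg.Prelude.Def_Local
import Mathlib.GroupTheory.Perm.Basic
import Mathlib.GroupTheory.SpecificGroups.Cyclic
import Mathlib.Data.Fintype.Perm

/-!
A rank two solvable signalizer functor on the symmetric group of degree five that is not complete.
-/

set_option autoImplicit false
set_option linter.deprecated false

namespace CfsgLib.Signalizer.RankTwo

open Subgroup Equiv

abbrev S5 := Equiv.Perm (Fin 5)

def a : S5 := Equiv.swap 0 1
def b : S5 := Equiv.swap 2 3
def x : S5 := Equiv.swap 2 3 * Equiv.swap 3 4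
def y : S5 := Equiv.swap 0 1 * Equiv.swap 1 4

theorem mul_mem' : ∀ u ∈ [1, a, b, a * b], ∀ v ∈ [1, a, b, a * b], u * v ∈ [1, a, b, a * b] := by
  decide +kernel

theorem inv_mem' : ∀ u ∈ [1, a, b, a * b], u⁻¹ ∈ [1, a, b, a * b] := by decide +kernel

def A : Subgroup S5 where
  carrier := {u | u ∈ [1, a, b, a * b]}
  mul_mem' := fun {u v} hu hv => RankTwo.mul_mem' u hu v hv
  one_mem' := by simp
  inv_mem' := fun {u} hu => RankTwo.inv_mem' u hu

theorem mem_zpowers_three {G : Type*} [Group G] [Finite G] [DecidableEq G] {t : G} (ht : t ^ 3 = 1)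
    {z : G} : z ∈ zpowers t ↔ z ∈ [1, t, t * t] := by
  constructor
  · intro h
    obtain ⟨n, rfl⟩ := (mem_powers_iff_mem_zpowers.2 h : z ∈ Submonoid.powers t)
    show t ^ n ∈ _
    rw [← Nat.mod_add_div n 3, pow_add, pow_mul, ht, one_pow, mul_one]
    have : n % 3 < 3 := Nat.mod_lt _ (by norm_num)
    interval_cases (n % 3) <;> simp [sq]
  · intro h
    simp only [List.mem_cons, List.not_mem_nil, or_false] at h
    rcases h with rfl | rfl | rfl
    exacts [one_mem _, mem_zpowers _, mul_mem (mem_zpowers _) (mem_zpowers _)]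

open scoped Classical in
noncomputable def theta (u : S5) : Subgroup S5 :=
  if u = a then zpowers x else if u = b then zpowers y else ⊥

theorem theta_a : theta a = zpowers x := by simp [theta]
theorem theta_b : theta b = zpowers y := by
  have : b ≠ a := by decide +kernel
  simp [theta, this]
theorem theta_ab : theta (a * b) = ⊥ := by
  have h1 : a * b ≠ a := by decide +kernel
  have h2 : a * b ≠ b := by decide +kernel
  simp [theta, h1, h2]

theorem cases_A {u : S5} (hu : u ∈ A) (h1 : u ≠ 1) : u = a ∨ u = b ∨ u = a * b := by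
  have : u ∈ [1, a, b, a * b] := hu
  simpa [h1] using this

theorem mem_cent {u v : S5} : v ∈ centralizer ({u} : Set S5) ↔ v * u = u * v :=
  mem_centralizer_singleton_iff

theorem mem_x {z : S5} : z ∈ zpowers x ↔ z ∈ [1, x, x * x] := mem_zpowers_three (by decide +kernel)
theorem mem_y {z : S5} : z ∈ zpowers y ↔ z ∈ [1, y, y * y] := mem_zpowers_three (by decide +kernel)

theorem card_x : Nat.card (zpowers x) = 3 := by
  haveI : Fact (Nat.Prime 3) := ⟨Nat.prime_three⟩
  rw [Nat.card_zpowers]
  exact orderOf_eq_prime (by decide +kernel) (by decide +kernel)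

theorem card_y : Nat.card (zpowers y) = 3 := by
  haveI : Fact (Nat.Prime 3) := ⟨Nat.prime_three⟩
  rw [Nat.card_zpowers]
  exact orderOf_eq_prime (by decide +kernel) (by decide +kernel)

theorem isElementary : Cfsg.IsElementaryAbelian 2 A := by
  have h : ∀ u ∈ [1, a, b, a * b], ∀ v ∈ [1, a, b, a * b], u * v = v * u := by decide +kernel
  have h2 : ∀ u ∈ [1, a, b, a * b], u ^ 2 = 1 := by decide +kernel
  exact ⟨⟨⟨fun u v => Subtype.ext (h u u.2 v v.2)⟩⟩, fun u hu => h2 u hu⟩

theorem card_A : Nat.card A = 4 := by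
  classical
  rw [Nat.card_eq_fintype_card, Fintype.card_of_subtype ([1, a, b, a * b].toFinset) (fun u => by
    rw [List.mem_toFinset]; rfl)]
  decide +kernel

theorem isFunctor : Cfsg.IsSolvableSignalizerFunctor 2 A theta := by
  have hc1 : ∀ z ∈ [1, x, x * x], z * a = a * z := by decide +kernel
  have hc2 : ∀ z ∈ [1, y, y * y], z * b = b * z := by decide +kernel
  have hi1 : ∀ v ∈ [1, a, b, a * b], ∀ z ∈ [1, x, x * x], v * z * v⁻¹ ∈ [1, x, x * x] := by
    decide +kernel
  have hi2 : ∀ v ∈ [1, a, b, a * b], ∀ z ∈ [1, y, y * y], v * z * v⁻¹ ∈ [1, y, y * y] := by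
    decide +kernel
  have hb1 : ∀ v ∈ [b, a * b], ∀ z ∈ [1, x, x * x], z * v = v * z → z = 1 := by decide +kernel
  have hb2 : ∀ v ∈ [a, a * b], ∀ z ∈ [1, y, y * y], z * v = v * z → z = 1 := by decide +kernel
  refine ⟨⟨fun u hu h1 => ?_, fun u hu h1 => ?_, fun u hu h1 v hv z hz => ?_,
    fun u hu h1 v hv hv1 => ?_⟩, fun u hu h1 => ?_⟩
  · rcases cases_A hu h1 with rfl | rfl | rfl
    · rw [theta_a]; exact fun z hz => mem_cent.2 (hc1 z (mem_x.1 hz))
    · rw [theta_b]; exact fun z hz => mem_cent.2 (hc2 z (mem_y.1 hz))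
    · rw [theta_ab]; exact bot_le
  · rcases cases_A hu h1 with rfl | rfl | rfl
    · rw [theta_a, card_x]; norm_num
    · rw [theta_b, card_y]; norm_num
    · rw [theta_ab, card_bot]; norm_num
  · rcases cases_A hu h1 with rfl | rfl | rfl
    · rw [theta_a] at hz ⊢; exact mem_x.2 (hi1 v hv z (mem_x.1 hz))
    · rw [theta_b] at hz ⊢; exact mem_y.2 (hi2 v hv z (mem_y.1 hz))
    · rw [theta_ab] at hz ⊢; simp [mem_bot.1 hz]
  · rintro z ⟨hz, hzv⟩
    have hzv' : z * v = v * z := mem_cent.1 hzv
    rcases cases_A hu h1 with rfl | rfl | rfl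
    · rw [theta_a] at hz
      rcases cases_A hv hv1 with rfl | rfl | rfl
      · rw [theta_a]; exact hz
      · rw [hb1 _ (by simp) z (mem_x.1 hz) hzv']; exact one_mem _
      · rw [hb1 _ (by simp) z (mem_x.1 hz) hzv']; exact one_mem _
    · rw [theta_b] at hz
      rcases cases_A hv hv1 with rfl | rfl | rfl
      · rw [hb2 _ (by simp) z (mem_y.1 hz) hzv']; exact one_mem _
      · rw [theta_b]; exact hz
      · rw [hb2 _ (by simp) z (mem_y.1 hz) hzv']; exact one_mem _
    · rw [theta_ab] at hz; rw [mem_bot.1 hz]; exact one_mem _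
  · rcases cases_A hu h1 with rfl | rfl | rfl
    · rw [theta_a]; infer_instance
    · rw [theta_b]; infer_instance
    · rw [theta_ab]; infer_instance

theorem not_complete : ¬ Cfsg.IsCompleteSignalizerFunctor 2 A theta := by
  rintro ⟨-, X, -, hX, hXeq⟩
  have hx : x ∈ X := by
    have h := hXeq a (show a ∈ [1, a, b, a * b] by simp) (by decide +kernel)
    rw [theta_a] at h
    exact (h.ge (mem_zpowers x)).1
  have hy : y ∈ X := by
    have h := hXeq b (show b ∈ [1, a, b, a * b] by simp) (by decide +kernel)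
    rw [theta_b] at h
    exact (h.ge (mem_zpowers y)).1
  apply hX
  have hw : x * y * x * y⁻¹ ∈ X := mul_mem (mul_mem (mul_mem hx hy) hx) (inv_mem hy)
  have ho : orderOf (x * y * x * y⁻¹) = 2 := orderOf_eq_prime (by decide +kernel) (by decide +kernel)
  exact ho ▸ orderOf_dvd_natCard X hw

end CfsgLib.Signalizer.RankTwo
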