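import Cfsg.Agent.Signalizer.Local
import Cfsg.Agent.Signalizer.Basic
import Cfsg.Agent.Comp.PComponent

/-!
`p'`-subgroups whose commutators with hyperplane centralizers have order prime to `q`.
-/

set_option autoImplicit false
set_option linter.unusedSectionVars false
set_option linter.deprecated false
set_option linter.style.haveILetI false

namespace CfsgLib.Signalizer

open Subgroup
open scoped commutatorElement

variable {G : Type*} [Group G] [Finite G] {p : ℕ} [Fact p.Prime] {A : Subgroup G}

theorem exists_hyperplane (hA : Cfsg.IsElementaryAbelian p A) (hA1 : A ≠ ⊥) :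
    ∃ B ≤ A, B.relIndex A = p := by
  obtain ⟨k, hk⟩ := IsPGroup.iff_card.1 (isPGroup hA)
  obtain ⟨j, rfl⟩ : ∃ j, k = j + 1 := ⟨k - 1, (Nat.succ_pred_eq_of_ne_zero fun h0 => hA1
    (card_eq_one.1 (by rw [hk, h0, pow_zero]))).symm⟩
  obtain ⟨B, hB⟩ := Sylow.exists_subgroup_card_pow_prime p
    (show p ^ j ∣ Nat.card A from hk ▸ pow_dvd_pow p (Nat.le_succ j))
  refine ⟨B.map A.subtype, map_subtype_le _, ?_⟩
  have h := relIndex_mul_relIndex ⊥ (B.map A.subtype) A bot_le (map_subtype_le _)
  rw [relIndex_bot_left, relIndex_bot_left, card_map_of_injective A.subtype_injective, hB, hk,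
    pow_succ] at h
  exact Nat.eq_of_mul_eq_mul_left (pow_pos (Fact.out : p.Prime).pos j) h

theorem le_pPrimeCore_of_hyperplane_commutators (hA : Cfsg.IsElementaryAbelian p A) (hA1 : A ≠ ⊥)
    {K : Subgroup G} (hK : ¬ p ∣ Nat.card K) (hKs : Group.IsSolvable K)
    (hAK : A ≤ normalizer (K : Set G)) {q : ℕ} [Fact q.Prime]
    {U : Subgroup G} (hU : U ≤ K) (hUq : ¬ q ∣ Nat.card U)
    (hcomm : ∀ B : Subgroup G, B ≤ A → B.relIndex A = p →
      ¬ q ∣ Nat.card ↥⁅U, K ⊓ centralizer (B : Set G)⁆) :
    U ≤ (Cfsg.pPrimeCore q K).map K.subtype := by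
  set O := Cfsg.pPrimeCore q K with hO
  set f := QuotientGroup.mk' O
  have hf : Function.Surjective f := QuotientGroup.mk'_surjective O
  have hker : f.ker = O := QuotientGroup.ker_mk' O
  set V := Cfsg.pCore q (K ⧸ O)
  have hV : IsPGroup q V := Solvable.isPGroup_pCore q
  set M := V.comap f with hM
  haveI hMn : M.Normal := Subgroup.Normal.comap inferInstance f
  have hOM : O ≤ M := hker.ge.trans (f.ker_le_comap V)
  have hq : q.Prime := Fact.out
  have hcardmap : ∀ N : Subgroup K, O ≤ N → Nat.card (N.map f) * Nat.card O = Nat.card N := by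
    intro N hN
    rw [← relIndex_ker, hker, mul_comm, ← relIndex_bot_left, ← relIndex_bot_left]
    exact relIndex_mul_relIndex ⊥ O N bot_le hN
  have hOq : (Nat.card O).Coprime q := Solvable.coprime_card_pPrimeCore q
  have hmapM : M.map f = V := map_comap_eq_self_of_surjective hf V
  -- a `q'`-subgroup of `M` lies in `O`
  have hsub : ∀ D : Subgroup K, D ≤ M → ¬ q ∣ Nat.card D → D ≤ O := by
    intro D hD hDq
    rw [← hker, ← Subgroup.map_eq_bot_iff]
    obtain ⟨k, hk⟩ := IsPGroup.iff_card.1 (hV.to_le (map_le_iff_le_comap.2 hD))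
    refine card_eq_one.1 ?_
    rcases k with _ | k
    · simpa using hk
    · exact absurd (((hk ▸ dvd_pow_self q k.succ_ne_zero : q ∣ Nat.card (D.map f))).trans
        (card_map_dvd _ _)) hDq
  -- `A` normalizes `M`
  have hAM : A ≤ normalizer ((M.map K.subtype : Subgroup G) : Set G) := by
    refine le_normalizer_of_conj_mem fun a ha u hu => ?_
    set g := (MulAut.conj a).toMonoidHom
    have hKg : K.map g = K := mem_normalizer_iff_map_conj_eq.1 (hAK ha)
    have hle : (M.map K.subtype).map g ≤ K := (map_mono (map_subtype_le _)).trans hKg.le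
    set N := ((M.map K.subtype).map g).subgroupOf K with hN
    haveI : N.Normal := by
      refine (normal_subgroupOf_iff_le_normalizer hle).2 ?_
      have h1 := map_mono (f := g) (Comp.normal_map_subtype_iff.1 hMn)
      rw [hKg] at h1
      exact h1.trans (le_normalizer_map _)
    have hON : O ≤ N := by
      intro x hx
      have h : a⁻¹ * (x : G) * a⁻¹⁻¹ ∈ O.map K.subtype :=
        PComp.conj_pPrimeCore_map_le (inv_mem (hAK ha)) ⟨_, mem_map_of_mem _ hx, rfl⟩
      rw [hN, mem_subgroupOf]
      exact ⟨_, map_mono hOM h, by simp [g, mul_assoc]⟩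
    have hNV : IsPGroup q (N.map f) := by
      obtain ⟨k, hk⟩ := IsPGroup.iff_card.1 hV
      refine IsPGroup.of_card (n := k) ?_
      have h1 := hcardmap N hON
      have h2 := hcardmap M hOM
      rw [hmapM, hk] at h2
      rw [hN, Nat.card_congr (subgroupOfEquivOfLe hle).toEquiv,
        card_map_of_injective (f := g) (MulAut.conj a).injective,
        card_map_of_injective K.subtype_injective, ← h2] at h1
      exact Nat.eq_of_mul_eq_mul_right Nat.card_pos h1
    have hNM : N ≤ M :=
      map_le_iff_le_comap.1 (Solvable.le_pCore q (Subgroup.Normal.map inferInstance f hf) hNV)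
    have hm : a * u * a⁻¹ ∈ (M.map K.subtype).map g := ⟨u, hu, rfl⟩
    rw [← map_subgroupOf_eq_of_le hle] at hm
    exact map_mono hNM hm
  have hMK : M.map K.subtype ≤ K := map_subtype_le _
  have hpM : ¬ p ∣ Nat.card ↥(M.map K.subtype) := fun h => hK (h.trans (card_dvd_of_le hMK))
  obtain ⟨S, hS⟩ := CoprimeAct.exists_invariant_sylow hAM (coprime_card hA hpM)
    (Or.inl (isSolvable hA)) q
  set Q := (S : Subgroup ↥(M.map K.subtype)).map (M.map K.subtype).subtype with hQ
  have hQM : Q ≤ M.map K.subtype := map_subtype_le _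
  -- each hyperplane centralizer in `Q` commutes with `U` modulo `O`
  set C := (centralizer ((U.subgroupOf K).map f : Set (K ⧸ O))).comap f
  have hQC : Q ≤ C.map K.subtype := by
    refine le_of_forall_hyperplane hA hS
      (fun h => hpM (h.trans (card_dvd_of_le hQM))) fun B hBA hBi => ?_
    obtain ⟨B', hB'A, hB'i, hcc⟩ : ∃ B' ≤ A, B'.relIndex A = p ∧
        centralizer (B : Set G) ≤ centralizer (B' : Set G) := by
      obtain ⟨k, hk⟩ := IsPGroup.iff_card.1 (isPGroup hA)
      obtain ⟨j, hj, hje⟩ := (Nat.dvd_prime_pow (Fact.out : p.Prime)).1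
        (hk ▸ (relIndex_dvd_card B A) : B.relIndex A ∣ p ^ k)
      rcases j with _ | _ | j
      · obtain ⟨B', hB'A, hB'i⟩ := exists_hyperplane hA hA1
        exact ⟨B', hB'A, hB'i, centralizer_le (hB'A.trans (relIndex_eq_one.1 (by simpa using hje)))⟩
      · exact ⟨B, hBA, by simpa using hje, le_rfl⟩
      · exfalso
        rw [hje] at hBi
        have h2 := (Fact.out : p.Prime).two_le
        have h3 : p ^ 2 ≤ p ^ (j + 1 + 1) := Nat.pow_le_pow_right (Fact.out : p.Prime).pos (by omega)
        nlinarith
    intro x hx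
    have hxM : x ∈ M.map K.subtype := hQM hx.1
    obtain ⟨xk, hxk, rfl⟩ := hxM
    refine ⟨xk, mem_centralizer_iff.2 ?_, rfl⟩
    rintro _ ⟨uk, huk, rfl⟩
    set D := (⁅U, K ⊓ centralizer (B' : Set G)⁆.subgroupOf K) ⊓ M
    have hD : D ≤ O := by
      refine hsub D inf_le_right fun h => hcomm B' hB'A hB'i (h.trans ?_)
      refine (card_dvd_of_le inf_le_left).trans ?_
      rw [← card_map_of_injective K.subtype_injective]
      exact card_dvd_of_le (map_comap_le _ _)
    have h1 : ⁅uk, xk⁆ ∈ O := by
      refine hD (mem_inf.2 ⟨?_, ?_⟩)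
      · show (⁅uk, xk⁆ : K).1 ∈ ⁅U, K ⊓ centralizer (B' : Set G)⁆
        exact commutator_mem_commutator huk ⟨xk.2, hcc hx.2⟩
      · rw [commutatorElement_def]
        exact mul_mem (hMn.conj_mem _ hxk uk) (inv_mem hxk)
    refine commutatorElement_eq_one_iff_mul_comm.1 ?_
    rw [← map_commutatorElement, ← MonoidHom.mem_ker, hker]
    exact h1
  -- `M = O Q`
  have hMC : M ≤ C := by
    have hQO : M.map K.subtype ≤ Q ⊔ O.map K.subtype := by
      rw [← relIndex_eq_one]
      refine Nat.eq_one_of_dvd_coprimes (k := (Q ⊔ O.map K.subtype).relIndex (M.map K.subtype)) ?_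
        (relIndex_dvd_of_le_left _ (le_sup_left : Q ≤ _)) (relIndex_dvd_of_le_left _ le_sup_right)
      rw [relIndex_map_map_of_injective _ _ K.subtype_injective, hQ,
        show ((S : Subgroup ↥(M.map K.subtype)).map (M.map K.subtype).subtype).relIndex (M.map K.subtype) =
          (S : Subgroup ↥(M.map K.subtype)).index by
            rw [relIndex, subgroupOf, comap_map_eq_self_of_injective (subtype_injective _)]]
      obtain ⟨k, hk⟩ := IsPGroup.iff_card.1 hV
      have h2 := hcardmap M hOM
      rw [hmapM, hk] at h2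
      have h3 : O.relIndex M = q ^ k := by
        rw [← hker, relIndex_ker, hmapM, hk]
      rw [h3]
      exact ((Nat.Prime.coprime_iff_not_dvd hq).2 S.not_dvd_index).symm.pow_right k
    have hOC : O.map K.subtype ≤ C.map K.subtype := map_mono (hker.ge.trans (f.ker_le_comap _))
    exact (map_le_map_iff_of_injective K.subtype_injective).1 (hQO.trans (sup_le hQC hOC))
  have hUV : (U.subgroupOf K).map f ≤ V := by
    haveI := hKs
    refine le_trans ?_ centralizer_pCore_quotient_le
    rw [le_centralizer_iff]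
    exact hmapM.ge.trans (map_le_iff_le_comap.2 hMC)
  refine (map_subgroupOf_eq_of_le hU).ge.trans (map_mono (hsub _ (map_le_iff_le_comap.1 hUV) ?_))
  rwa [Nat.card_congr (subgroupOfEquivOfLe hU).toEquiv]

end CfsgLib.Signalizer
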